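import Cfsg.Agent.Lib.TIB.Tri

/-! S1779: with `NoCm` and one line, the local structure `Fin2`.  Q = Qo B, Q₀ = Q ⊓ C(B).

* `odd_C`: a ∈ V₁ (Ln B B₁) inverting an odd f ∈ N(B): a and a' = f a f⁻¹ centralize V and B/V, so a a' = f⁻² does;
  `odd_step` with P = V gives f² ∈ C(B), `odd_sq`.
* `lemY`: y ∈ C(B), y² = 1, Vc B₁ (y•B₁).  If y•B₁ = B₁, y centralizes some u ≠ 1 (`exists_fix`), so V₁ (`ln_C0`).  Else Ln (NoCm),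
  P from `centre`; Vc P B.  P = B: done.  Else Ln B P, y centralizes Om P (as before), Om P = ⁅V₁,y⁆; for x ∈ B \ V, u ≠ 1:
  x ⁅u,y⁆ x⁻¹ = ⁅x u x⁻¹, y⁆ = ⁅u,y⁆ (x u x⁻¹ ∈ uV), contradicting `ln_inj` (⁅u,y⁆ ≠ 1).
* `ex_two`: suppose all points with Om's in a common 2-group have Vc.  Then V₁ ≤ Q for Ln B B₁: a ∈ V₁ \ Q, f, a' as above,
  B₂ = f•B₁.  Kᵢ = ⨆_{g ∈ Q} g•Vᵢ is elementary abelian, Pᵢ = Kᵢ ⊓ Q₀ is normalized by Q₀, ⁅Q₀,a⁆ ≤ P₁, ⁅Q₀,a'⁆ ≤ P₂, `lemY` gives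
  ⁅V₁,P₂⁆ ≤ V, ⁅V₂,P₁⁆ ≤ V, V ≤ ... ; so a, a', hence f⁻² and f, stabilize Q₀ ≥ P₁ ⊔ P₂ ⊔ V ≥ V ≥ 1; `odd_step` twice, `odd_Q0`: f = 1.
  Then all P with Vc B P have Om P ≤ Q, so pairwise Vc, and `ct` (Γ = Vc) gives B = B₁.
* `ex_tri`: a pair with ¬ Vc and Om B₁ ⊔ Om B₂ a 2-group of minimal order; `exists_ncl` + minimality give Vc B₁ (y•B₁) for y ∈ V₂,
  so Ln (NoCm; y•B₁ ≠ B₁ by `vc_of_mem`); `triOf`.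
* `R_inv`: z = x u ∈ B ⊔ V₁ with z² = 1, x ∉ V ⇒ u inverts x; t_x ∈ B ⊔ V₁ (`tri_le`), t_x = x' u', t_x x⁻¹ ∈ C(E₁) ⇒ x' ≡ x, and u' = u
  (`ln_inj`) ⇒ z ∈ t_x V.
* `R_eq`: Ln B B₁, Ln B B₃, V₃ ≤ B ⊔ V₁ ⇒ B ⊔ V₃ = B ⊔ V₁ (V₃ → V₁, x u ↦ u is injective since V₃ ⊓ B = 1; cards).
* `lemR`: induction on |V₁ ⊔ V₃|.  Vc ⇒ `nt`.  Else `exists_ncl` + induction: g•V₁ ≤ B ⊔ V₁ for g ∈ V₃#.  g u g⁻¹ = x u', and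
  `ln_phi` gives u' = u.  If some x ∉ V with u ≠ 1 then g•B₁ is not on E₁ so this holds for all u ≠ 1 (`ln_meet_le`); g inverts
  x_u = ⁅g,u⁆ for every u ≠ 1; x_u ≢ x_{u'} mod V (u inverts x_u, `ln_inj`), contradicting `ln_inv_inj` for (B,B₃).  So ⁅V₁,V₃⁆ ≤ V:
  Tri B B₁ B₃, `tri_le`.
* `Om_le_Q'`: a ∈ V₁ \ Q, f odd: for y ∈ Q₀, y a y⁻¹ ∈ B ⊔ V₁ (`lemR`, V₁ ⊔ Q is a 2-group), ⁅y,a⁆ ∈ (B ⊔ V₁) ⊓ C(B) = B; same for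
  a'; f stabilizes Q₀ ≥ B ≥ 1; `odd_Q0`.
* `fin2`: lines: V₃ ≤ B ⊔ V₁ (`lemR`, all in Q), t ≠ 1 in V₃ lies in E₁ or E₂ (`R_inv`), `ln_meet_le`.
  Kᵢ = C(B ⊔ Bᵢ).  m ∈ N(B) maps {E₁,E₂} to itself and Kᵢ to K_j accordingly (m•Bᵢ = x•B_j, x ∈ B, `ln_meet`).  κ ∈ K₁ centralizes
  B ⊔ V₁ ≥ V₂, so κ = v κ', κ' ∈ K₂ (`ln_S`); if v ≠ 1 take h ∈ (B ⊔ B₂) ⊓ N(B) moving v (`ln_trV`, `four`): h normalizes E₂, so E₁ and K₁: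
  ⁅h,κ⁆ = h v h⁻¹ v⁻¹ ∈ K₁ ⊓ V = 1.  So K₁ = K₂ = K is normalized by N(B); K ⊓ Q = 1 by `max` (B₁ ≤ C(K), B₁ ⊄ N(B)), so
  ⁅K,Q⁆ = 1, K ≤ Q (`chr`), K = 1.  c ∈ C(E₁): c normalizes E₂, `ln_EQ` + `ln_T`: c = x c₂, c₂ ∈ C(E₂); for y ∈ B with
  t_y = y u_y v: ⁅c,y⁆ = ⁅x,u_y⁆ = ⁅u_x,y⁆, so c u_x ∈ C(B) ⊓ C(V₁) ≤ V K = V.  `cent`: `ln_EQ`, `ln_T`. -/

set_option autoImplicit false

namespace Cfsg.Lib.TIB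
open Subgroup Cfsg.Lib Cfsg.Lib.FT Cfsg.Lib.Bender
open scoped commutatorElement

variable {G : Type*} [Group G] [Finite G] {𝓑 : Set (Subgroup G)}

variable {B B₁ B₂ B₃ : Subgroup G}

/-- the elements of `N(D)` fixing the coset `D y` -/
def exSt (y : G) (D : Subgroup G) : Subgroup G where
  carrier := {g | g ∈ N[D] ∧ ⁅g, y⁆ ∈ D}
  one_mem' := ⟨one_mem _, by simp⟩
  mul_mem' := by
    rintro a b ⟨a1, a2⟩ ⟨b1, b2⟩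
    refine ⟨mul_mem a1 b1, ?_⟩
    rw [show ⁅a * b, y⁆ = a * ⁅b, y⁆ * a⁻¹ * ⁅a, y⁆ by group]
    exact mul_mem (nm a1 b2) a2
  inv_mem' := by
    rintro a ⟨a1, a2⟩
    refine ⟨inv_mem a1, ?_⟩
    rw [show ⁅a⁻¹, y⁆ = a⁻¹ * ⁅a, y⁆⁻¹ * a by group]
    exact nm' a1 (inv_mem a2)

omit [Finite G] in
theorem ex_odd_mem {H : Subgroup G} {a f : G} (a2 : a * a = 1) (ho : Odd (orderOf f)) (hi : a * f * a⁻¹ = f⁻¹)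
    (h1 : a ∈ H) (h2 : f * a * f⁻¹ ∈ H) : f ∈ H := by
  refine odd_sq ho (inv_mem_iff.1 ?_)
  have := mul_mem h1 h2
  rwa [show a * (f * a * f⁻¹) = a * f * a⁻¹ * (a * a) * f⁻¹ by group, hi, a2, mul_one, ← mul_inv_rev] at this

theorem ex_step {D : Subgroup G} (hD : IsPGroup 2 D) {a f y : G} (a2 : a * a = 1) (ho : Odd (orderOf f))
    (hi : a * f * a⁻¹ = f⁻¹) (hc : f ∈ C[D]) (ha : a ∈ N[D]) (h1 : ⁅a, y⁆ ∈ D) (h2 : ⁅f * a * f⁻¹, y⁆ ∈ D) :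
    Commute f y :=
  have hf := centralizer_le_normalizer _ hc
  odd_step ho hD hc (ex_odd_mem (H := exSt y D) a2 ho hi ⟨ha, h1⟩ ⟨mul_mem (mul_mem hf ha) (inv_mem hf), h2⟩).2

omit [Finite G] in
theorem Ln.cjN (L : Ln B B₁) {g : G} (hg : g ∈ N[B]) : Ln B (g •ᶜ B₁) := by
  simpa only [cj_eq_iff.2 hg] using L.cj g

omit [Finite G] in
theorem ex_cj_Om {g u : G} (hu : u ∈ Om B) : g * u * g⁻¹ ∈ Om (g •ᶜ B) := Om_cj g B ▸ cj_mem g hu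

omit [Finite G] in
theorem Fam.exV (F : Fam 𝓑) (hB : B ∈ 𝓑) : ∃ x ∈ B, x ∉ Om B :=
  let ⟨x, hx, h⟩ := F.ex4 B hB; ⟨x, hx, fun e => h (Om_sq e)⟩

omit [Finite G] in
theorem ex_comm_inv {D : Subgroup G} {a b : G} (h : ⁅a, b⁆ ∈ D) : ⁅b, a⁆ ∈ D := by
  rw [← commutatorElement_inv]; exact inv_mem h

omit [Finite G] in
theorem ex_N_C {g c : G} (hg : g ∈ N[B]) (hc : c ∈ C[B]) : g * c * g⁻¹ ∈ C[B] := by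
  rw [← cj_eq_iff.2 hg, mem_cen_cj]; simpa [mul_assoc] using hc

omit [Finite G] in
theorem ex_cle {A D : Subgroup G} (h : A ≤ D) {c : G} (hc : c ∈ C[D]) : c ∈ C[A] := centralizer_le h hc

theorem ex_mem_N {D : Subgroup G} {g : G} (h : ∀ x ∈ D, g * x * g⁻¹ ∈ D) : g ∈ N[D] :=
  mem_normalizer_fintype h

theorem Fam.Om_two (F : Fam 𝓑) (hB : B ∈ 𝓑) : IsPGroup 2 (Om B) := (F.two B hB).to_le (Om_le B)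

theorem Fam.odd_C (F : Fam 𝓑) (hB : B ∈ 𝓑) (h1 : B₁ ∈ 𝓑) (L : Ln B B₁) {a f : G} (ha : a ∈ Om B₁) (hf : f ∈ N[B])
    (ho : Odd (orderOf f)) (hi : a * f * a⁻¹ = f⁻¹) : f ∈ C[B] := by
  have L' := L.cjN hf
  have ha' := ex_cj_Om (g := f) ha
  have hc : f ∈ C[Om B] := ex_odd_mem (Om_sq ha) ho hi (L.vc.symm ha) (L'.vc.symm ha')
  exact cen_of fun x hx => ex_step (F.Om_two hB) (Om_sq ha) ho hi hc (centralizer_le_normalizer _ (L.vc.symm ha))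
    (F.ln_cm hB h1 L hx ha) (F.ln_cm hB (F.conj _ h1 f) L' hx ha')

theorem Fam.cen_of_N (F : Fam 𝓑) (hB : B ∈ 𝓑) (h1 : B₁ ∈ 𝓑) (L : Ln B B₁) {y : G} (hy : y ∈ C[B]) (y2 : y * y = 1)
    (hn : y ∈ N[B₁]) : y ∈ C[Om B₁] := by
  obtain ⟨v, hv, v1⟩ := F.Om_ne h1
  obtain ⟨d, hd, d1, c⟩ := exists_fix (F.Om_two h1) (fun e => v1 (by rwa [e, mem_bot] at hv)) (N_le_NOm _ hn) (k := 1)
    (by rw [pow_one, sq, y2]; exact one_mem _)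
  exact F.ln_C0 hB h1 L hy hd d1 c

theorem Fam.lemY (F : Fam 𝓑) (hC : NoCm 𝓑) (hB : B ∈ 𝓑) (h1 : B₁ ∈ 𝓑) (L : Ln B B₁) {y : G} (hy : y ∈ C[B])
    (y2 : y * y = 1) (hv : Vc B₁ (y •ᶜ B₁)) {u : G} (hu : u ∈ Om B₁) : ⁅u, y⁆ ∈ Om B := by
  by_cases e : B₁ = y •ᶜ B₁
  · rw [(cen (F.cen_of_N hB h1 L hy y2 (cj_eq_iff.1 e.symm)) hu).symm.commutator_eq]
    exact one_mem _
  obtain ⟨P, hP, le, hn, H⟩ := F.centre h1 y2 ⟨e, hv, fun c => e (hC _ h1 _ (F.conj _ h1 y) c)⟩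
  have vc : Vc P B := le.trans (sup_le L.vc.symm (L.cjN (centralizer_le_normalizer _ hy)).vc.symm)
  by_cases e' : B = P
  · subst e'
    exact (H (centralizer_le (Om_le B) hy)).1 u hu
  have LP : Ln B P := ⟨e', vc.symm, fun c => e' (hC _ hB _ hP c)⟩
  obtain ⟨p, hp, p1⟩ := F.Om_ne hP
  obtain ⟨u0, hu0, rfl⟩ := (H (F.cen_of_N hB hP LP hy y2 hn)).2 p hp
  obtain ⟨x, hx, x1⟩ := F.exV hB
  refine (p1 (F.ln_inj hB hP LP hx x1 hp ?_)).elim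
  have hw := ex_comm_inv (F.ln_cm hB h1 L hx hu0)
  have c1 := (cen hy hx).eq
  have c2 := (cen hy hw.1).inv_right.eq
  have c3 := (vc.comm hp hw).eq
  change x * ⁅u0, y⁆ = ⁅u0, y⁆ * x
  calc x * ⁅u0, y⁆ = ⁅x, u0⁆ * u0 * (x * y * x⁻¹) * (⁅x, u0⁆ * u0)⁻¹ * (x * y * x⁻¹)⁻¹ * x := by group
    _ = ⁅x, u0⁆ * ⁅u0, y⁆ * (y * ⁅x, u0⁆⁻¹) * y⁻¹ * x := by rw [← c1, mul_inv_cancel_right]; group
    _ = _ := by rw [c2, ← c3]; group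

theorem ex_two_sup {A : Subgroup G} (hA : IsPGroup 2 A) (h : A ≤ N[B]) {g : G} (hg : g ∈ Qo B) :
    IsPGroup 2 (A ⊔ g •ᶜ A : Subgroup G) := by
  refine (hA.to_sup_of_normal_right' (Qo_two B) (h.trans (N_le_NQ B))).to_le (sup_le le_sup_left fun x hx => ?_)
  rw [show x = g * (g⁻¹ * x * g) * g⁻¹ by group]
  exact mul_mem (mul_mem (mem_sup_right hg) (mem_sup_left (mem_cj.1 hx))) (inv_mem (mem_sup_right hg))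

omit [Finite G] in
theorem ex_Q0 {a y : G} (ha : a ∈ N[B]) (hy : y ∈ Qo B ⊓ C[B]) : a * y * a⁻¹ ∈ Qo B ⊓ C[B] :=
  ⟨nm (N_le_NQ B ha) hy.1, ex_N_C ha hy.2⟩

theorem Fam.ex_two (F : Fam 𝓑) (hC : NoCm 𝓑) (hB : B ∈ 𝓑) (h1 : B₁ ∈ 𝓑) (L : Ln B B₁) :
    ∃ P ∈ 𝓑, ∃ P' ∈ 𝓑, ¬ Vc P P' ∧ IsPGroup 2 (Om P ⊔ Om P' : Subgroup G) := by
  by_contra hno
  have H : ∀ P ∈ 𝓑, ∀ P' ∈ 𝓑, IsPGroup 2 (Om P ⊔ Om P' : Subgroup G) → Vc P P' := fun P hP P' hP' h =>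
    by_contra fun nv => hno ⟨P, hP, P', hP', nv, h⟩
  have HQ : ∀ P ∈ 𝓑, Ln B P → ∀ y ∈ Qo B, Vc P (y •ᶜ P) := fun P hP LP y hy => H _ hP _ (F.conj _ hP y) (by
    rw [Om_cj]; exact ex_two_sup (F.Om_two hP) (F.Om_le_N hB LP.vc.symm) hy)
  have key : ∀ P ∈ 𝓑, Vc B P → Om P ≤ Qo B := fun P hP vc a ha => by
    by_cases e : B = P
    · exact F.le_Q hB (e ▸ ha).1
    have LP : Ln B P := ⟨e, vc, fun c => e (hC _ hB _ hP c)⟩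
    by_contra hQ
    have aN := F.Om_le_N hB vc.symm ha
    obtain ⟨f, hf, f1, ho, hi⟩ := exists_odd aN (Om_sq ha) hQ
    have fC := F.odd_C hB hP LP ha hf ho hi
    have hP' := F.conj _ hP f
    have LP' := LP.cjN hf
    have ha' := ex_cj_Om (g := f) ha
    have s1 : ∀ y ∈ Qo B ⊓ C[B], y * y = 1 → Commute f y := fun y hy y2 =>
      ex_step (F.Om_two hB) (Om_sq ha) ho hi (centralizer_le (Om_le B) fC) (N_le_NOm B aN)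
        (F.lemY hC hB hP LP hy.2 y2 (HQ _ hP LP y hy.1) ha) (F.lemY hC hB hP' LP' hy.2 y2 (HQ _ hP' LP' y hy.1) ha')
    have s2 : ∀ R ∈ 𝓑, Ln B R → ∀ b ∈ Om R, ∀ y ∈ Qo B ⊓ C[B], ⁅b, y⁆ ∈ Qo B ⊓ C[B] ⊓ C1[f] := fun R hR LR b hb y hy => by
      have m := mul_mem (ex_Q0 (F.Om_le_N hB LR.vc.symm hb) hy) (inv_mem hy)
      refine ⟨m, mem_C1.2 (s1 _ m ?_).symm⟩
      have hb' := ex_cj_Om (g := y) hb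
      rw [show b * y * b⁻¹ * y⁻¹ = b * (y * b⁻¹ * y⁻¹) by group, Om_inv hb,
        ((HQ R hR LR y hy.1).comm hb hb').symm.mul_mul_mul_comm, Om_sq hb, Om_sq hb', one_mul]
    refine f1 (F.odd_Q0 hB ho fC (cen_of fun y hy => ex_step (D := Qo B ⊓ C[B] ⊓ C1[f])
      (Qo_two B).to_inf_left.to_inf_left (Om_sq ha) ho hi (cen_of fun d hd => (mem_C1.1 hd.2).symm)
      (ex_mem_N fun d hd => ⟨ex_Q0 aN hd.1, mem_C1.2 ?_⟩) (s2 _ hP LP _ ha y hy) (s2 _ hP' LP' _ ha' y hy)))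
    have c : Commute d f⁻¹ := (show Commute d f from mem_C1.1 hd.2).inv_right
    have e1 : f = a * f⁻¹ * a⁻¹ := by rw [← conj_inv, hi, inv_inv]
    rw [e1, conj_mul, conj_mul, c.eq]
  exact L.ne (F.ct Vc (fun B _ => Vc.refl B) (fun _ _ g h => h.cj g) (fun _ _ _ _ h => h) hB h1 fun P hP vc =>
    H _ h1 _ hP ((Qo_two B).to_le (sup_le (key _ h1 L.vc) (key _ hP vc))))

/-- the normal closure step -/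
theorem ex_lt (hP : IsPGroup 2 (Om B₁ ⊔ Om B₂ : Subgroup G)) (nv : ¬ Vc B₁ B₂) {y : G} (hy : y ∈ Om B₂) :
    IsPGroup 2 (Om B₁ ⊔ Om (y •ᶜ B₁) : Subgroup G) ∧
      Nat.card (Om B₁ ⊔ Om (y •ᶜ B₁) : Subgroup G) < Nat.card (Om B₁ ⊔ Om B₂ : Subgroup G) := by
  obtain ⟨K, hK, h⟩ := exists_ncl hP fun le => nv ((Vc.refl B₁).trans (centralizer_le le))
  have : Om B₁ ⊔ Om (y •ᶜ B₁) ≤ K := sup_le (cj_one (Om B₁) ▸ h 1 (one_mem _)) (Om_cj y B₁ ▸ h y (mem_sup_right hy))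
  exact ⟨hP.to_le (this.trans hK.le), (card_le_of_le this).trans_lt (pg_card_lt_of_lt hK)⟩

theorem Fam.ex_tri (F : Fam 𝓑) (hC : NoCm 𝓑) (hB : B ∈ 𝓑) (h1 : B₁ ∈ 𝓑) (L : Ln B B₁) :
    ∃ P ∈ 𝓑, ∃ P₁ ∈ 𝓑, ∃ P₂ ∈ 𝓑, Tri P P₁ P₂ := by
  classical
  have ex : ∃ n, ∃ P ∈ 𝓑, ∃ P' ∈ 𝓑, ¬ Vc P P' ∧ IsPGroup 2 (Om P ⊔ Om P' : Subgroup G) ∧
      Nat.card (Om P ⊔ Om P' : Subgroup G) = n :=
    let ⟨P, hP, P', hP', nv, h⟩ := F.ex_two hC hB h1 L; ⟨_, P, hP, P', hP', nv, h, rfl⟩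
  have key : ∀ P ∈ 𝓑, ∀ P' ∈ 𝓑, ¬ Vc P P' → IsPGroup 2 (Om P ⊔ Om P' : Subgroup G) →
      Nat.card (Om P ⊔ Om P' : Subgroup G) = Nat.find ex → ∀ y ∈ Om P', y ≠ 1 → Ln P (y •ᶜ P) := by
    intro P hP P' hP' nv h e y hy y1
    obtain ⟨h2, h3⟩ := ex_lt h nv hy
    have ne : P ≠ y •ᶜ P := fun e' => nv (F.vc_of_mem hP' hP hy.1 y1 (cj_eq_iff.1 e'.symm)).symm
    exact ⟨ne, by_contra fun nv' => Nat.find_min ex (e ▸ h3) ⟨P, hP, _, F.conj _ hP y, nv', h2, rfl⟩,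
      fun c => ne (hC _ hP _ (F.conj _ hP y) c)⟩
  obtain ⟨P, hP, P', hP', nv, h, e⟩ := Nat.find_spec ex
  obtain ⟨R, hR, T, -⟩ := F.triOf hP hP' nv (key P hP P' hP' nv h e)
    (key P' hP' P hP (fun c => nv c.symm) (sup_comm (Om P) _ ▸ h) (sup_comm (Om P) _ ▸ e))
  exact ⟨R, hR, P, hP, P', hP', T⟩

theorem Fam.mem_R (F : Fam 𝓑) (hB : B ∈ 𝓑) (L : Ln B B₁) {z : G} (hz : z ∈ B ⊔ Om B₁) :
    ∃ u ∈ Om B₁, ∃ x ∈ B, z = u * x := by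
  rwa [sup_comm, mem_sup_nm (F.Om_le_N hB L.vc.symm)] at hz

theorem Fam.inv_eq (F : Fam 𝓑) (hB : B ∈ 𝓑) (h1 : B₁ ∈ 𝓑) (L : Ln B B₁) {x u u' : G} (hx : x ∈ B) (x1 : x ∉ Om B)
    (hu : u ∈ Om B₁) (hu' : u' ∈ Om B₁) (e : u * x * u⁻¹ = u' * x * u'⁻¹) : u = u' := by
  refine (inv_mul_eq_one.1 (F.ln_inj hB h1 L hx x1 (mul_mem (inv_mem hu') hu) ?_)).symm
  change x * (u'⁻¹ * u) = u'⁻¹ * u * x
  rw [show u'⁻¹ * u * x = u'⁻¹ * (u * x * u⁻¹) * u by group, e]; group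

/-- `t_x ∈ u x⁻¹ V` -/
theorem Fam.t_dec (F : Fam 𝓑) (hC : NoCm 𝓑) (hB : B ∈ 𝓑) (h1 : B₁ ∈ 𝓑) (h2 : B₂ ∈ 𝓑) (T : Tri B B₁ B₂) {x : G}
    (hx : x ∈ B) : ∃ t ∈ Om B₂, ∃ u ∈ Om B₁, ∃ v ∈ Om B, t = x * v * u ∧ u * x * u⁻¹ = x⁻¹ := by
  obtain ⟨t, ht, -, -, c, -, i, -, -⟩ := F.tri_dec hB h1 h2 T hx
  obtain ⟨u, hu, x', hx', rfl⟩ := F.mem_R hB T.l1 (F.tri_le hB h1 h2 T hC ht)
  have m := nm (F.Om_le_N hB T.l1.vc.symm hu) hx'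
  refine ⟨_, ht, u, hu, x⁻¹ * (u * x' * u⁻¹), F.ln_CE hB h1 T.l1 (mul_mem (inv_mem hx) m) ?_, by group, ?_⟩
  · rw [show x⁻¹ * (u * x' * u⁻¹) = x⁻¹ * (u * x') * u⁻¹ by group]
    exact mul_mem c (inv_mem (F.ln_Ecomm hB h1 T.l1 (mem_sup_right hu)))
  · rw [← i, mul_assoc u x', (F.cm hB hx' hx).eq]; group

theorem Fam.R_inv (F : Fam 𝓑) (hC : NoCm 𝓑) (hB : B ∈ 𝓑) (h1 : B₁ ∈ 𝓑) (h2 : B₂ ∈ 𝓑) (T : Tri B B₁ B₂) {z : G}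
    (hz : z ∈ B ⊔ Om B₁) (z2 : z * z = 1) : z ∈ Om B ⊔ Om B₁ ∨ z ∈ Om B ⊔ Om B₂ := by
  obtain ⟨u, hu, x, hx, rfl⟩ := F.mem_R hB T.l1 hz
  by_cases x1 : x ∈ Om B
  · exact Or.inl (mul_mem (mem_sup_right hu) (mem_sup_left x1))
  obtain ⟨t, ht, u', hu', v, hv, e, i⟩ := F.t_dec hC hB h1 h2 T hx
  have i' : u * x * u⁻¹ = x⁻¹ := by rw [Om_inv hu, eq_inv_iff_mul_eq_one, mul_assoc, z2]
  obtain rfl := F.inv_eq hB h1 T.l1 hx x1 hu hu' (i'.trans i.symm)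
  refine Or.inr ?_
  rw [show u * x = u * x * u⁻¹ * (x * v)⁻¹ * (x * v * u) by group, ← e, i', ← mul_inv_rev, mul_assoc x v,
    (Om_comm hv hx).eq, ← mul_assoc]
  exact mul_mem (mem_sup_left (inv_mem (mul_mem (F.ln_sq hB h1 T.l1 hx) hv))) (mem_sup_right ht)

theorem Fam.lemR (F : Fam 𝓑) (hC : NoCm 𝓑) (hN : NatF 𝓑) (hB : B ∈ 𝓑) (h1 : B₁ ∈ 𝓑) (h3 : B₃ ∈ 𝓑) (L : Ln B B₁)
    (L3 : Ln B B₃) (hP : IsPGroup 2 (Om B₁ ⊔ Om B₃ : Subgroup G)) : Om B₃ ≤ B ⊔ Om B₁ := by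
  induction hn : Nat.card (Om B₁ ⊔ Om B₃ : Subgroup G) using Nat.strong_induction_on generalizing B₃ with
  | _ n ih =>
  by_cases vc : Vc B₁ B₃
  · exact (F.nt hN hB h1 L hC h3 L3.vc.symm vc.symm).trans (sup_le_sup_right (Om_le B) _)
  refine F.tri_le hB h1 h3 ⟨L, L3, vc, fun u hu g hg => ?_⟩ hC
  obtain ⟨p1, p2⟩ := ex_lt hP vc hg
  have hg1 := F.conj _ h1 g
  have le := ih _ (hn ▸ p2) hg1 (L.cjN (F.Om_le_N hB L3.vc.symm hg)) p1 rfl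
  obtain ⟨y, hy, y1⟩ := F.exV hB
  have cm : ∀ u ∈ Om B₁, ⁅u, g⁆ = u⁻¹ * (g * u * g⁻¹) := fun u hu => by
    rw [commutatorElement_def, Om_inv hu]; group
  have inB : ∀ u ∈ Om B₁, ⁅u, g⁆ ∈ B := fun u hu => by
    obtain ⟨u', hu', x, hx, e⟩ := F.mem_R hB L (le (ex_cj_Om hu))
    have := F.ln_phi hB h1 L (L3.vc.symm hg) hy hu
    rw [e, show ⁅u' * x, y⁆ = u' * (x * y) * x⁻¹ * u'⁻¹ * y⁻¹ by group, (F.cm hB hx hy).eq, commutatorElement_def,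
      mul_left_inj] at this
    rw [cm u hu, e, F.inv_eq hB h1 L hy y1 hu hu' (by rw [← this]; group), inv_mul_cancel_left]
    exact hx
  by_contra x1
  have all : ∀ u' ∈ Om B₁, u' ≠ 1 → ⁅u', g⁆ ∉ Om B := fun u' hu' u1 e => by
    have := F.ln_meet_le hN hB h1 L hg1 (e := g * u' * g⁻¹) (by
      rw [show g * u' * g⁻¹ = u' * ⁅u', g⁆ by rw [cm u' hu']; group]
      exact mul_mem (mem_sup_right hu') (mem_sup_left e)) (cj_mem g hu'.1) (by simpa [mul_inv_eq_iff_eq_mul] using u1)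
    refine x1 (F.ln_CE hB h1 L (inB u hu) (F.ln_Ecomm hB h1 L ?_))
    rw [cm u hu]
    exact mul_mem (mem_sup_right (inv_mem hu)) (this (ex_cj_Om hu))
  have ig : ∀ u : G, g * ⁅u, g⁆ * g⁻¹ = ⁅u, g⁆⁻¹ := fun u => by
    simp only [commutatorElement_def, mul_inv_rev, inv_inv, Om_inv hg, mul_assoc, Om_sq hg, mul_one]
  have iu : ∀ u ∈ Om B₁, u * ⁅u, g⁆ * u⁻¹ = ⁅u, g⁆⁻¹ := fun u hu => by
    simp only [commutatorElement_def, mul_inv_rev, inv_inv, Om_inv hu, ← mul_assoc, Om_sq hu, one_mul]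
  obtain ⟨a, ha, b, hb, a1, b1, ab⟩ := F.four _ h1
  have hv := F.ln_inv_inj hN hB h3 L3 hg (inB a ha) (all a ha a1) (inB b hb) (all b hb b1) (ig a) (ig b)
  refine ab (F.inv_eq hB h1 L (inB a ha) (all a ha a1) ha hb ?_)
  have i := iu b hb
  have xB := inB a ha
  rw [iu a ha]
  generalize ⁅a, g⁆ = x at *
  obtain ⟨v, e⟩ : ∃ v, ⁅b, g⁆ = x * v := ⟨x⁻¹ * ⁅b, g⁆, by group⟩
  rw [e, inv_mul_cancel_left] at hv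
  rw [e, ← conj_mul, ← (L.vc.comm hv hb).eq, mul_inv_cancel_right, mul_inv_rev, Om_inv hv,
    (Om_comm hv (inv_mem xB)).eq] at i
  exact (mul_right_cancel i).symm

theorem Fam.Om_le_Q' (F : Fam 𝓑) (hC : NoCm 𝓑) (hN : NatF 𝓑) (hB : B ∈ 𝓑) (h1 : B₁ ∈ 𝓑) (L : Ln B B₁) :
    Om B₁ ≤ Qo B := fun a ha => by
  by_contra hQ
  have aN := F.Om_le_N hB L.vc.symm ha
  obtain ⟨f, hf, f1, ho, hi⟩ := exists_odd aN (Om_sq ha) hQ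
  have fC := F.odd_C hB h1 L ha hf ho hi
  obtain ⟨x0, hx0, x1⟩ := F.exV hB
  have s : ∀ R ∈ 𝓑, Ln B R → ∀ b ∈ Om R, ∀ y ∈ Qo B ⊓ C[B], ⁅b, y⁆ ∈ B := fun R hR LR b hb y hy => by
    have m := (mul_mem (ex_Q0 (F.Om_le_N hB LR.vc.symm hb) hy) (inv_mem hy)).2
    have le := F.lemR hC hN hB hR (F.conj _ hR y) LR (LR.cjN (Qo_le B hy.1))
      (by rw [Om_cj]; exact ex_two_sup (F.Om_two hR) (F.Om_le_N hB LR.vc.symm) hy.1)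
    obtain ⟨u, hu, x, hx, e⟩ := F.mem_R hB LR (mul_mem (mem_sup_right hb) (inv_mem (le (ex_cj_Om (g := y) hb))))
    rw [show b * (y * b * y⁻¹)⁻¹ = ⁅b, y⁆ by group] at e
    rw [← commutatorElement_def, e] at m
    rw [e, F.ln_inj hB hR LR hx0 x1 hu (cen ((C[B].mul_mem_cancel_right (F.comm B hB hx)).1 m) hx0).symm, one_mul]
    exact hx
  exact f1 (F.odd_Q0 hB ho fC (cen_of fun y hy => ex_step (F.two B hB) (Om_sq ha) ho hi fC aN (s _ h1 L _ ha y hy)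
    (s _ (F.conj _ h1 f) (L.cjN hf) _ (ex_cj_Om ha) y hy)))

theorem Fam.K_conj (F : Fam 𝓑) (hN : NatF 𝓑) (hB : B ∈ 𝓑) (h1 : B₁ ∈ 𝓑) (h3 : B₃ ∈ 𝓑) (L : Ln B B₁) (L3 : Ln B B₃)
    {m κ : G} (hm : m ∈ N[B]) (le : Om (m •ᶜ B₁) ≤ Om B ⊔ Om B₃) (hκ : κ ∈ C[B ⊔ B₁]) : m * κ * m⁻¹ ∈ C[B ⊔ B₃] := by
  obtain ⟨v, hv, v1⟩ := F.Om_ne (F.conj _ h1 m)
  obtain ⟨x, hx, e⟩ := (F.ln_meet hN hB h3 L3 (F.conj _ h1 m) (le hv) hv.1 v1).resolve_left (L.cjN hm).ne.symm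
  have : m •ᶜ (B ⊔ B₁) = B ⊔ B₃ := by
    rw [cj_sup, e, cj_eq_iff.2 hm, ← cj_eq_iff.2 (le_normalizer (mem_sup_left hx : x ∈ B ⊔ B₃)), cj_sup,
      cj_eq_iff.2 (F.le_N hB hx)]
  rw [← this, mem_cen_cj]
  simpa [mul_assoc] using hκ

section
variable (F : Fam 𝓑) (hC : NoCm 𝓑) (hB : B ∈ 𝓑) (h1 : B₁ ∈ 𝓑) (h2 : B₂ ∈ 𝓑) (T : Tri B B₁ B₂)
include F hC hB h1 h2 T

theorem Fam.ex_lines (h3 : B₃ ∈ 𝓑) (L3 : Ln B B₃) : Om B₃ ≤ Om B ⊔ Om B₁ ∨ Om B₃ ≤ Om B ⊔ Om B₂ := by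
  have hN := F.tri_nat hB h1 h2 T
  obtain ⟨t, ht, t1⟩ := F.Om_ne h3
  exact (F.R_inv hC hB h1 h2 T (F.lemR hC hN hB h1 h3 T.l1 L3 ((Qo_two B).to_le
    (sup_le (F.Om_le_Q' hC hN hB h1 T.l1) (F.Om_le_Q' hC hN hB h3 L3))) ht) (Om_sq ht)).imp
    (fun e => F.ln_meet_le hN hB h1 T.l1 h3 e ht.1 t1) fun e => F.ln_meet_le hN hB h2 T.l2 h3 e ht.1 t1

theorem Fam.ex_nE {m : G} (hm : m ∈ N[B]) (hE : m ∈ N[Om B ⊔ Om B₁]) : Om (m •ᶜ B₂) ≤ Om B ⊔ Om B₂ :=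
  (F.ex_lines hC hB h1 h2 T (F.conj _ h2 m) (T.l2.cjN hm)).resolve_left fun le => T.nv (Vc.symm fun t ht =>
    cen_of fun _ hu => cen (F.ln_Ecomm hB h1 T.l1 (by simpa [mul_assoc] using nm' hE (le (ex_cj_Om ht))))
      (mem_sup_right hu))

theorem Fam.ex_K {κ : G} (hκ : κ ∈ C[B ⊔ B₁]) : κ ∈ C[B ⊔ B₂] := by
  have hN := F.tri_nat hB h1 h2 T
  obtain ⟨v, hv, c⟩ := F.ln_S hB h2 T.l2 (centralizer_le ((F.tri_le hB h1 h2 T hC).trans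
    (sup_le_sup_left (Om_le B₁) B)) hκ) (ex_cle le_sup_left hκ)
  by_cases v1 : v = 1
  · rwa [v1, one_mul] at c
  obtain ⟨v', hv', w1, ne⟩ : ∃ v' ∈ Om B, v' ≠ 1 ∧ v' ≠ v := by
    obtain ⟨a, ha, b, hb, a1, b1, ab⟩ := F.four B hB
    by_cases e : a = v
    exacts [⟨b, hb, b1, e ▸ ab.symm⟩, ⟨a, ha, a1, e⟩]
  obtain ⟨h, hh, hn, e⟩ := F.ln_trV hN hB h2 T.l2 hv v1 hv' w1
  have k := F.K_conj hN hB h1 h1 T.l1 T.l1 hn (F.ex_nE hC hB h2 h1 T.symm hn (F.ln_NE hB h2 T.l2 hh)) hκ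
  have e2 : h * κ * h⁻¹ * κ⁻¹ = v'⁻¹ * v := by
    rw [← e, show h * κ * h⁻¹ * κ⁻¹ = h * v⁻¹ * (v * κ * h⁻¹) * κ⁻¹ by group, (cen c (inv_mem hh)).eq]; group
  obtain ⟨x, hx, x1⟩ := F.exV h1
  have := F.ln_inj h1 hB T.l1.symm hx x1 (mul_mem (inv_mem hv') hv)
    (cen (e2 ▸ mul_mem k (inv_mem hκ)) (mem_sup_right hx)).symm
  exact (ne (inv_mul_eq_one.1 this)).elim

theorem Fam.ex_K1 {κ : G} (hκ : κ ∈ C[B ⊔ B₁]) : κ = 1 := by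
  have hN := F.tri_nat hB h1 h2 T
  have nK : N[B] ≤ N[C[B ⊔ B₁]] := fun m hm => ex_mem_N fun k hk =>
    (F.ex_lines hC hB h1 h2 T (F.conj _ h1 m) (T.l1.cjN hm)).elim (fun le => F.K_conj hN hB h1 h1 T.l1 T.l1 hm le hk)
      fun le => F.ex_K hC hB h2 h1 T.symm (F.K_conj hN hB h1 h2 T.l1 T.l2 hm le hk)
  have bot : Qo B ⊓ C[B ⊔ B₁] = ⊥ := by
    by_contra ne
    have := F.max B hB _ (Qo_two B).to_inf_left ne fun m hm => ex_mem_N fun k hk =>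
      ⟨nm (N_le_NQ B hm) hk.1, nm (nK hm) hk.2⟩
    obtain ⟨x, hx, x1⟩ := F.exV h1
    exact x1 (F.ln_N h1 hB T.l1.symm hx (this (centralizer_le_normalizer _
      (cen_of fun k hk => (cen hk.2 (mem_sup_right hx)).symm))))
  have κN : κ ∈ N[B] := centralizer_le_normalizer _ (ex_cle le_sup_left hκ)
  refine mem_bot.1 (bot ▸ ⟨F.chr B hB κ κN (cen_of fun q hq => commutatorElement_eq_one_iff_commute.1 ?_), hκ⟩)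
  refine mem_bot.1 (bot ▸ ⟨(Qo B).mul_mem (nm (N_le_NQ B κN) hq) ((Qo B).inv_mem hq), ?_⟩)
  rw [show ⁅κ, q⁆ = κ * (q * κ⁻¹ * q⁻¹) by group]
  exact mul_mem hκ (nm (nK (Qo_le B hq)) (inv_mem hκ))

theorem Fam.ex_CE {c : G} (hc : c ∈ C[Om B ⊔ Om B₁]) : c ∈ Om B ⊔ Om B₁ := by
  have cV : c ∈ C[Om B] := ex_cle le_sup_left hc
  have cN : c ∈ N[B] := F.NOm hB (centralizer_le_normalizer _ cV)
  have n2 : c ∈ N[Om B ⊔ Om B₂] := ex_mem_N fun e he => by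
    have := cj_mem c he
    rw [cj_sup, ← Om_cj, ← Om_cj, cj_eq_iff.2 cN] at this
    exact sup_le le_sup_left (F.ex_nE hC hB h1 h2 T cN (centralizer_le_normalizer _ hc)) this
  obtain ⟨x, hx, c2⟩ := F.ln_T hB h2 T.l2 cV fun u hu => F.ln_EQ hB h2 T.l2 n2 cV hu
  obtain ⟨-, -, u, hu, -, c3, -⟩ := F.tri_dec hB h1 h2 T hx
  have d1 : u⁻¹ * c ∈ C[Om B ⊔ Om B₁] := mul_mem (inv_mem (F.ln_Ecomm hB h1 T.l1 (mem_sup_right hu))) hc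
  have d2 : u⁻¹ * c ∈ C[Om B ⊔ Om B₂] := by simpa [mul_assoc] using mul_mem (inv_mem c3) c2
  obtain ⟨v, hv, k⟩ := F.ln_S hB h1 T.l1 (ex_cle le_sup_right d1) (cen_of fun y hy => by
    obtain ⟨t, ht, u', hu', v', hv', e, -⟩ := F.t_dec hC hB h1 h2 T hy
    rw [show y = t * u'⁻¹ * v'⁻¹ by rw [e]; group]
    exact ((cen d2 (mem_sup_right ht)).mul_right (cen d1 (mem_sup_right hu')).inv_right).mul_right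
      (cen d1 (mem_sup_left hv')).inv_right)
  rw [show c = u * v⁻¹ * (v * (u⁻¹ * c)) by group, F.ex_K1 hC hB h1 h2 T k, mul_one]
  exact mul_mem (mem_sup_right hu) (mem_sup_left (inv_mem hv))

end

theorem Fam.fin2 (F : Fam 𝓑) (hC : NoCm 𝓑) (hB : B ∈ 𝓑) (h1 : B₁ ∈ 𝓑) (h2 : B₂ ∈ 𝓑) (T : Tri B B₁ B₂) :
    Fin2 𝓑 B B₁ B₂ := by
  refine ⟨T, F.tri_le hB h1 h2 T hC, fun _ h3 L3 => F.ex_lines hC hB h1 h2 T h3 L3,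
    fun _ hz z2 => F.R_inv hC hB h1 h2 T hz z2, fun g _ hE hc => ?_⟩
  obtain ⟨x, hx, c⟩ := F.ln_T hB h1 T.l1 hc fun u hu => F.ln_EQ hB h1 T.l1 hE hc hu
  rw [show g = x * (x⁻¹ * g) by group]
  exact mul_mem (mem_sup_left hx) (sup_le_sup_right (Om_le B) _ (F.ex_CE hC hB h1 h2 T c))

end Cfsg.Lib.TIB
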