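import Cfsg.Agent.Lib.TIB.Line

/-! S1779: two non-commuting lines through a point.  V = Om B, V₁ = Om B₁, V₂ = Om B₂, Eᵢ = V ⊔ Vᵢ, Lᵢ = B ⊔ Bᵢ.
V is central in everything below (it commutes with B, V₁, V₂) and all commutators ⁅u,x⁆, ⁅u,t⁆ lie in V (exponent 2).

* `Tri.nat`: by `ln_T` each t ∈ V₂ acts on E₁ as some x(t) ∈ B; t ↦ x(t)·x(t) ∈ V is injective on V₂ (x(t)² = x(t')² ⇒
  x(t)x(t')⁻¹ ∈ V ⇒ t t' centralizes V₁ ⇒ t = t' by `nv`, `vc_of_comm`); |V₂| = |V| ⇒ onto.  Transport by `F.tr`.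
* `ln_surj'` (NatF): for u ≠ 1 in V', the map v = x² ↦ ⁅u,x⁆ (well defined: x is determined mod V) is injective V → V
  (`ln_inj`), so onto.   `ln_cover`: e = v u, u ≠ 1, v = ⁅x,u⁆ ⇒ e = x u x⁻¹.
* `ln_trE`: N(B) ⊓ L is transitive on V# (`ln_trans`, squares), `ln_cover`, `ln_conj`.
* `ln_hat`: x ∈ B \ V.  α(u) = ⁅u,x⁆ : V' → V bijective.  Take u₀ ≠ 1 in V'; `ln_surj'` for the line (B',B) gives
  y ∈ B' with y α(u₀) y⁻¹ = α(u₀) u₀ = x u₀ x⁻¹, so y•B = x•B' (TI), and then ⁅α(u), y⁆ = u for ALL u (y α(u) y⁻¹ ∈ x•V').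
  n = x y x acts on E by u ↦ α(u), α(u) ↦ u; so n•B = B', and n x n⁻¹ acts on E like y, so n x n⁻¹ y⁻¹ ∈ V' (`ln_CE`) and
  y² = n x² n⁻¹, i.e. α(y²) = x², i.e. y² inverts x.
* `ln_inv_inj`: u inverts x and x' ⇒ u = y² = y'² (`ln_inj`) ⇒ y y'⁻¹ ∈ V' ⇒ x•B' = y•B = y'•B = x'•B' ⇒ x⁻¹x' ∈ V (`ln_N`).
* `Tri.inv`: t ∈ V₂, x ∈ B, c = x⁻¹ t ∈ C(E₁).  c² = x⁻¹ (t x⁻¹ t) ∈ V; for l ∈ B₁, l c l⁻¹ = e c with e ∈ E₁ (`ln_cE`), so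
  l centralizes c²; `ln_inj` for (B₁,B) ⇒ c² = 1 ⇒ t inverts x.
* `Tri.ex`: every x ∈ B has t ∈ V₂ with x⁻¹ t ∈ C(E₁) (counting as in `nat`), and (symm) u ∈ V₁ with x⁻¹ u ∈ C(E₂).
  Put m(x,y) = ⁅u_y, x⁆ = ⁅u_y, t_x⁆ = ⁅y, t_x⁆ (up to inverses, all in V); it is biadditive and m(x,x) = x² (`inv`), so
  m(xy,xy) = x²y² gives m(x,y) = m(y,x): `Tri.sym`, whence t_x u_x ∈ C(B): `Tri.dec`.
* `Tri.card`: x, x', x'' = x x' ∉ V with hats y, y', y'': y''² = u_{x''} = u_x u_{x'} = (y y')² ⇒ y'' ≡ y y' mod V₁.  For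
  v = m(x,x') = α_x(u_{x'}) = α_{x'}(u_x): ⁅v,y⁆ = u_{x'}, ⁅v,y'⁆ = u_x, so ⁅v,y''⁆ = u_{x''}, v = α_{x''}(u_{x''}) = x''².  So
  m(x,x') = x²x'² whenever x, x', xx' ∉ V.  If |V| > 4 pick x, x', z with squares F₂-independent:
  m(x, x'z) = x²x'²z² but m(x,x')m(x,z) = x'²z² ⇒ x² = 1, contradiction.  (Only `three` is needed later.)
* `Tri.pt`: c(x) = t_x u_x x⁻¹ ∈ J = C(B) ⊓ C(E₁) ⊓ C(E₂); mod V everything commutes and c is additive.  Take x, x' with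
  x, x', x'' = x x' ∉ V and h ∈ L₂ ⊓ N(B), h x h⁻¹ ≡ x' (`ln_trans`).  c(x) ∈ V·C(L₂) (`ln_S`) ⇒ h c(x) h⁻¹ ≡ c(x);
  h t_x h⁻¹ ∈ E₂ inverts x' ⇒ ≡ t_{x'}.  So h u_x h⁻¹ ≡ t_{x'} x' c(x) ≡ u_{x'} c(x') c(x) ≡ u_{x'} c(x''), i.e.
  h u_x h⁻¹ = e κ, e ∈ E₁ \ V, κ ∈ C(L₁), κ ≡ c(x'').  Conjugate by l ∈ L₁ with l e l⁻¹ = u_{x''} (`ln_trE`):
  u_{x''} κ ≡ t_{x''} x'' mod V lies in Om ((l h)•B₁).
* `nt` (NoCm): if Om P ⊄ E then P ≠ B, B', Ln P B, Ln P B'.  x ∈ B \ V, t ≠ 1 in Om P, u ∈ V' with ⁅u,x⁆ = ⁅t,x⁆ (`ln_surj`):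
  x centralizes u t, which lies on the line (B',P), so in a point P' (`ln_cover`); u t = 1 ⇒ P = B'; else x ∈ N(P'), so
  P' = B (`cm_of_mem`, NoCm), u t ∈ V, t ∈ E, and t lies in a point of E (`ln_cover`), = P by TI: contradiction.
* `Tri.le` (NoCm): same x, x', x'' but h ∈ L₁ ⊓ N(B): h t_x h⁻¹ ≡ c(x) c(x') t_{x'} commutes with V₂, so `nt` puts
  Om (h•B₂) in E₂, c(x'') ∈ E₂ ⊓ C(B) = V, t_{x''} ∈ B ⊔ V₁; every t ≠ 1 of V₂ is a t_{x''}. -/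

set_option autoImplicit false

namespace Cfsg.Lib.TIB
open Subgroup Cfsg.Lib Cfsg.Lib.FT Cfsg.Lib.Bender
open scoped commutatorElement

variable {G : Type*} [Group G] [Finite G] {𝓑 : Set (Subgroup G)}

variable {B B' B₁ B₂ : Subgroup G}

omit [Finite G] in
theorem cm_congr {x t u : G} (h : Commute (x⁻¹ * t) u) : ⁅u, t⁆ = ⁅u, x⁆ := by
  rw [show ⁅u, t⁆ = u * x * ((x⁻¹ * t) * u⁻¹) * (x⁻¹ * t)⁻¹ * x⁻¹ by rw [commutatorElement_def]; group, h.inv_right.eq,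
    commutatorElement_def]; group

omit [Finite G] in
theorem comm_of_cm {x t u : G} (h : ⁅u, t⁆ = ⁅u, x⁆) : Commute (x⁻¹ * t) u := by
  simp only [commutatorElement_def, mul_assoc, mul_right_inj] at h
  change x⁻¹ * t * u = u * (x⁻¹ * t)
  rw [show x⁻¹ * t * u = x⁻¹ * (t * (u⁻¹ * t⁻¹))⁻¹ * t by group, h]; group

omit [Finite G] in
theorem Fam.sq_iff (F : Fam 𝓑) (hB : B ∈ 𝓑) {x y : G} (hx : x ∈ B) (hy : y ∈ B) : x⁻¹ * y ∈ Om B ↔ x * x = y * y := by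
  rw [F.mem_Om hB, show x⁻¹ * y * (x⁻¹ * y) = x⁻¹ * (y * x⁻¹) * y by group, (F.cm hB hy (inv_mem hx)).eq,
    show x⁻¹ * (x⁻¹ * y) * y = (x * x)⁻¹ * (y * y) by group, inv_mul_eq_one]
  exact and_iff_right (mul_mem (inv_mem hx) hy)

omit [Finite G] in
theorem Fam.sq_mul (F : Fam 𝓑) (hB : B ∈ 𝓑) {x y : G} (hx : x ∈ B) (hy : y ∈ B) : x * y * (x * y) = x * x * (y * y) := by
  rw [show x * y * (x * y) = x * (y * x) * y by group, (F.cm hB hy hx).eq]; group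

theorem Fam.ln_mul' (F : Fam 𝓑) (hB : B ∈ 𝓑) (hB' : B' ∈ 𝓑) (L : Ln B B') {x y u : G} (hx : x ∈ B) (hy : y ∈ B)
    (hu : u ∈ Om B') : ⁅u, x * y⁆ = ⁅u, x⁆ * ⁅u, y⁆ := by
  rw [show ⁅u, x * y⁆ = ⁅u, x⁆ * (x * ⁅u, y⁆) * x⁻¹ by simp only [commutatorElement_def]; group,
    ← (Om_comm (F.ln_cm hB hB' L hy hu) hx).eq]; group

theorem Fam.ln_inv_iff (F : Fam 𝓑) (hB : B ∈ 𝓑) (hB' : B' ∈ 𝓑) (L : Ln B B') {x u : G} (hx : x ∈ B) :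
    u * x * u⁻¹ = x⁻¹ ↔ ⁅u, x⁆ = x * x := by
  rw [← Om_inv (F.ln_sq hB hB' L hx), commutatorElement_def, mul_inv_rev, mul_left_inj]

theorem Fam.ln_cjx (F : Fam 𝓑) (hB : B ∈ 𝓑) (hB' : B' ∈ 𝓑) (L : Ln B B') {x u : G} (hx : x ∈ B) (hu : u ∈ Om B') :
    x * u * x⁻¹ = ⁅u, x⁆ * u := by
  rw [(L.vc.comm (F.ln_cm hB hB' L hx hu) hu).eq, commutatorElement_def, Om_inv hu, ← mul_assoc, ← mul_assoc, ← mul_assoc,
    Om_sq hu, one_mul]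

theorem Fam.tri_aux (F : Fam 𝓑) (hB : B ∈ 𝓑) (h1 : B₁ ∈ 𝓑) (h2 : B₂ ∈ 𝓑) (T : Tri B B₁ B₂) {v : G} (hv : v ∈ Om B) :
    ∃ t ∈ Om B₂, ∃ x ∈ B, x * x = v ∧ x⁻¹ * t ∈ C[Om B ⊔ Om B₁] := by
  have : ∀ t : Om B₂, ∃ x ∈ B, x⁻¹ * t ∈ C[Om B ⊔ Om B₁] := fun t =>
    F.ln_T hB h1 T.l1 (T.l2.vc.symm t.2) fun u hu => T.cm u hu t t.2
  choose X hX hc using this
  let f : Om B₂ → Om B := fun t => ⟨X t * X t, F.ln_sq hB h1 T.l1 (hX t)⟩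
  have inj : Function.Injective f := fun t t' h => by
    have m := (F.sq_iff hB (hX t) (hX t')).2 (congrArg Subtype.val h)
    obtain ⟨u, hu, u1⟩ := F.Om_ne h1
    have c : Commute ((t : G)⁻¹ * t') u := comm_of_cm (by
      rw [cm_congr (cen (hc t) (mem_sup_right hu)), cm_congr (cen (hc t') (mem_sup_right hu)),
        cm_congr (T.l1.vc.comm m hu)])
    exact Subtype.ext (inv_mul_eq_one.1 (by_contra fun q =>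
      T.nv (F.vc_of_comm h1 h2 hu.1 u1 (mul_mem (inv_mem t.2.1) t'.2.1) q c.symm)))
  obtain ⟨t, ht⟩ := (inj.bijective_of_nat_card_le (F.card_Om hB h2).le).2 ⟨v, hv⟩
  exact ⟨t, t.2, X t, hX t, congrArg Subtype.val ht, hc t⟩

theorem Fam.tri_nat (F : Fam 𝓑) (hB : B ∈ 𝓑) (h1 : B₁ ∈ 𝓑) (h2 : B₂ ∈ 𝓑) (T : Tri B B₁ B₂) : NatF 𝓑 := by
  intro P hP v hv
  obtain ⟨g, rfl⟩ := F.tr B hB P hP
  rw [Om_cj, mem_cj] at hv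
  obtain ⟨-, -, x, hx, e, -⟩ := F.tri_aux hB h1 h2 T hv
  exact ⟨_, cj_mem g hx, by rw [show g * x * g⁻¹ * (g * x * g⁻¹) = g * (x * x) * g⁻¹ by group, e]; group⟩

section
variable (F : Fam 𝓑) (hN : NatF 𝓑) (hB : B ∈ 𝓑) (hB' : B' ∈ 𝓑) (L : Ln B B')
include F hN hB hB' L

theorem Fam.ln_surj' {u v : G} (hu : u ∈ Om B') (h1 : u ≠ 1) (hv : v ∈ Om B) : ∃ x ∈ B, ⁅u, x⁆ = v := by
  choose s hs e using fun v : Om B => hN B hB v v.2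
  let f : Om B → Om B := fun v => ⟨⁅u, s v⁆, F.ln_cm hB hB' L (hs v) hu⟩
  have inj : Function.Injective f := fun v v' h => Subtype.ext (by
    rw [← e, ← e]
    exact ((F.sq_iff hB (hs v') (hs v)).1 (F.ln_N hB hB' L (mul_mem (inv_mem (hs v')) (hs v))
      (F.N_of_comm hB' hu.1 h1 (comm_of_cm (congrArg Subtype.val h))))).symm)
  obtain ⟨w, hw⟩ := Finite.surjective_of_injective inj ⟨v, hv⟩
  exact ⟨s w, hs w, congrArg Subtype.val hw⟩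

theorem Fam.ln_cover {e : G} (he : e ∈ Om B ⊔ Om B') : e ∈ Om B ∨ ∃ x ∈ B, e ∈ Om (x •ᶜ B') := by
  obtain ⟨v, hv, u, hu, rfl⟩ := L.vc.mem_sup.1 he
  by_cases u1 : u = 1
  · exact Or.inl (by rwa [u1, mul_one])
  obtain ⟨x, hx, e⟩ := F.ln_surj' hN hB hB' L hu u1 hv
  exact Or.inr ⟨x, hx, by rw [Om_cj, ← e, ← F.ln_cjx hB hB' L hx hu]; exact cj_mem x hu⟩

/-- a point meeting the line lies on it -/
theorem Fam.ln_meet {P : Subgroup G} (hP : P ∈ 𝓑) {e : G} (he : e ∈ Om B ⊔ Om B') (heP : e ∈ P) (h1 : e ≠ 1) :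
    P = B ∨ ∃ x ∈ B, P = x •ᶜ B' := by
  rcases F.ln_cover hN hB hB' L he with h | ⟨x, hx, h⟩
  · exact Or.inl (F.ti _ hP _ hB e heP h.1 h1)
  · exact Or.inr ⟨x, hx, F.ti _ hP _ (F.conj _ hB' x) e heP h.1 h1⟩

theorem Fam.ln_meet_le {P : Subgroup G} (hP : P ∈ 𝓑) {e : G} (he : e ∈ Om B ⊔ Om B') (heP : e ∈ P) (h1 : e ≠ 1) :
    Om P ≤ Om B ⊔ Om B' := by
  rcases F.ln_meet hN hB hB' L hP he heP h1 with rfl | ⟨x, hx, rfl⟩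
  · exact le_sup_left
  · rw [Om_cj, ← cj_eq_iff.2 (F.ln_NE hB hB' L (mem_sup_left hx))]; exact cj_mono le_sup_right

theorem Fam.ln_trV {v v' : G} (hv : v ∈ Om B) (h1 : v ≠ 1) (hv' : v' ∈ Om B) (h1' : v' ≠ 1) :
    ∃ l ∈ B ⊔ B', l ∈ N[B] ∧ l * v * l⁻¹ = v' := by
  obtain ⟨x, hx, rfl⟩ := hN B hB v hv
  obtain ⟨y, hy, rfl⟩ := hN B hB v' hv'
  obtain ⟨g, hg, n, k⟩ := F.ln_trans hB hB' L hx (fun q => h1 (Om_sq q)) hy (fun q => h1' (Om_sq q))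
  refine ⟨g, hg, n, ?_⟩
  rw [(F.cm hB (nm n hx) (inv_mem hy)).eq, F.sq_iff hB hy (nm n hx)] at k
  rw [k]; group

theorem Fam.ln_trE {e e' : G} (he : e ∈ Om B ⊔ Om B') (h1 : e ≠ 1) (he' : e' ∈ Om B ⊔ Om B') (h1' : e' ≠ 1) :
    ∃ l ∈ B ⊔ B', l * e * l⁻¹ = e' := by
  have key : ∀ e ∈ Om B ⊔ Om B', ∃ l ∈ B ⊔ B', l * e * l⁻¹ ∈ Om B := fun e he => by
    rcases F.ln_cover hN hB hB' L he with h | ⟨x, hx, h⟩
    · exact ⟨1, one_mem _, by simpa using h⟩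
    obtain ⟨y, hy, y2⟩ := F.ex4 _ hB
    obtain ⟨y', hy', y2'⟩ := F.ex4 _ hB'
    obtain ⟨g, hg, k, -⟩ := F.ln_conj hB hB' L hy (fun q => y2 (Om_sq q)) hy' (fun q => y2' (Om_sq q))
    rw [← k, cj_cj, Om_cj, mem_cj] at h
    exact ⟨(x * g)⁻¹, inv_mem (mul_mem (mem_sup_left hx) hg), by rwa [inv_inv]⟩
  obtain ⟨l, hl, m⟩ := key e he
  obtain ⟨l', hl', m'⟩ := key e' he'
  obtain ⟨g, hg, -, k⟩ := F.ln_trV hN hB hB' L m (by simpa [mul_inv_eq_iff_eq_mul] using h1) m'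
    (by simpa [mul_inv_eq_iff_eq_mul] using h1')
  exact ⟨l'⁻¹ * g * l, mul_mem (mul_mem (inv_mem hl') hg) hl, by
    rw [show l'⁻¹ * g * l * e * (l'⁻¹ * g * l)⁻¹ = l'⁻¹ * (g * (l * e * l⁻¹) * g⁻¹) * l' by group, k]; group⟩

theorem Fam.ln_hat {x : G} (hx : x ∈ B) (hx' : x ∉ Om B) :
    ∃ y ∈ B', y •ᶜ B = x •ᶜ B' ∧ (∀ u ∈ Om B', ⁅⁅u, x⁆, y⁆ = u) ∧ y * y * x * (y * y)⁻¹ = x⁻¹ := by
  have a := fun u (hu : u ∈ Om B') => F.ln_cm hB hB' L hx hu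
  obtain ⟨u₀, hu₀, u1⟩ := F.Om_ne hB'
  have a1 : ⁅u₀, x⁆ ≠ 1 := fun q => u1 (F.ln_inj hB hB' L hx hx' hu₀ (commutatorElement_eq_one_iff_commute.1 q).symm)
  obtain ⟨y, hy, e₀⟩ := F.ln_surj' hN hB' hB L.symm (a u₀ hu₀) a1 hu₀
  have e1 : y •ᶜ B = x •ᶜ B' := F.cj_eq hB (F.conj _ hB' x) (a u₀ hu₀).1 a1 (by
    rw [F.ln_cjx hB' hB L.symm hy (a u₀ hu₀), e₀, ← (L.vc.comm (a u₀ hu₀) hu₀).eq, ← F.ln_cjx hB hB' L hx hu₀]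
    exact cj_mem x hu₀.1)
  have e2 : ∀ u ∈ Om B', ⁅⁅u, x⁆, y⁆ = u := fun u hu => by
    have m : y * ⁅u, x⁆ * y⁻¹ ∈ x •ᶜ Om B' := by rw [← Om_cj, ← e1, Om_cj]; exact cj_mem y (a u hu)
    obtain ⟨u', hu', k⟩ := m
    change x * u' * x⁻¹ = _ at k
    have w := F.ln_cm hB' hB L.symm hy (a u hu)
    rw [F.ln_cjx hB hB' L hx hu', F.ln_cjx hB' hB L.symm hy (a u hu), ← (L.vc.comm (a u hu) w).eq] at k
    have k' : ⁅u, x⁆⁻¹ * ⁅u', x⁆ = ⁅⁅u, x⁆, y⁆ * u'⁻¹ := by rw [eq_mul_inv_iff_mul_eq, mul_assoc, k]; group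
    have z := F.eq_one hB hB' L.ne (mul_mem (inv_mem (a u hu).1) (a u' hu').1) (k' ▸ mul_mem w.1 (inv_mem hu'.1))
    rw [z, eq_comm, mul_inv_eq_one] at k'
    rw [k', F.ln_inj' hB hB' L hx hx' hu hu' (inv_mul_eq_one.1 z)]
  have cy : ∀ u ∈ Om B', y * ⁅u, x⁆ * y⁻¹ = u * ⁅u, x⁆ := fun u hu => by rw [F.ln_cjx hB' hB L.symm hy (a u hu), e2 u hu]
  have xv : ∀ v ∈ Om B, x * v * x⁻¹ = v := fun v hv => by rw [← (Om_comm hv hx).eq, mul_inv_cancel_right]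
  have yu : ∀ v ∈ Om B', y * v * y⁻¹ = v := fun v hv => by rw [← (Om_comm hv hy).eq, mul_inv_cancel_right]
  have n1 : ∀ u ∈ Om B', x * y * x * u * (x * y * x)⁻¹ = ⁅u, x⁆ := fun u hu => by
    rw [show x * y * x * u * (x * y * x)⁻¹ = x * (y * (x * u * x⁻¹) * y⁻¹) * x⁻¹ by group, F.ln_cjx hB hB' L hx hu,
      show y * (⁅u, x⁆ * u) * y⁻¹ = (y * ⁅u, x⁆ * y⁻¹) * (y * u * y⁻¹) by group, cy u hu, yu u hu, mul_assoc u,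
      (L.vc.comm (a u hu) hu).eq, ← mul_assoc u, Om_sq hu, one_mul, xv _ (a u hu)]
  have n2 : ∀ u ∈ Om B', x * y * x * ⁅u, x⁆ * (x * y * x)⁻¹ = u := fun u hu => by
    rw [show x * y * x * ⁅u, x⁆ * (x * y * x)⁻¹ = x * (y * (x * ⁅u, x⁆ * x⁻¹) * y⁻¹) * x⁻¹ by group, xv _ (a u hu), cy u hu,
      show x * (u * ⁅u, x⁆) * x⁻¹ = (x * u * x⁻¹) * (x * ⁅u, x⁆ * x⁻¹) by group, xv _ (a u hu), F.ln_cjx hB hB' L hx hu,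
      (L.vc.comm (a u hu) hu).eq, mul_assoc, Om_sq (a u hu), mul_one]
  generalize x * y * x = n at n1 n2
  have nB : n * x * n⁻¹ ∈ B' := F.cj_eq hB hB' (a u₀ hu₀).1 a1 (by rw [n2 u₀ hu₀]; exact hu₀.1) ▸ cj_mem n hx
  have m := mul_mem (inv_mem hy) nB
  have k : y⁻¹ * (n * x * n⁻¹) ∈ Om B' := F.ln_CE hB' hB L.symm m (cen_E L.symm (centralizer_le (Om_le _) (F.comm _ hB' m))
    (cen_of fun v hv => by
      obtain ⟨u, hu, rfl⟩ := F.ln_surj hB hB' L hx hx' hv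
      refine mul_inv_eq_iff_eq_mul.1 ?_
      conv_lhs => rw [← n1 u hu]
      rw [show y⁻¹ * (n * x * n⁻¹) * (n * u * n⁻¹) * (y⁻¹ * (n * x * n⁻¹))⁻¹ = y⁻¹ * (n * (x * u * x⁻¹) * n⁻¹) * y by group,
        F.ln_cjx hB hB' L hx hu, show n * (⁅u, x⁆ * u) * n⁻¹ = (n * ⁅u, x⁆ * n⁻¹) * (n * u * n⁻¹) by group, n1 u hu, n2 u hu,
        ← cy u hu]; group))
  refine ⟨y, hy, e1, e2, (F.ln_inv_iff hB hB' L hx).2 ?_⟩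
  obtain ⟨u, hu, q⟩ := F.ln_surj hB hB' L hx hx' (F.ln_sq hB hB' L hx)
  rw [(F.sq_iff hB' hy nB).1 k, show n * x * n⁻¹ * (n * x * n⁻¹) = n * (x * x) * n⁻¹ by group, ← q, n2 u hu]

theorem Fam.ln_inv_inj {u x x' : G} (hu : u ∈ Om B') (hx : x ∈ B) (h : x ∉ Om B) (hx' : x' ∈ B) (h' : x' ∉ Om B)
    (i : u * x * u⁻¹ = x⁻¹) (i' : u * x' * u⁻¹ = x'⁻¹) : x⁻¹ * x' ∈ Om B := by
  obtain ⟨y, hy, e, -, k⟩ := F.ln_hat hN hB hB' L hx h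
  obtain ⟨y', hy', e', -, k'⟩ := F.ln_hat hN hB hB' L hx' h'
  have s := F.ln_inj' hB hB' L hx h (F.ln_sq hB' hB L.symm hy) hu (by rw [commutatorElement_def, k, commutatorElement_def, i])
  have s' := F.ln_inj' hB hB' L hx' h' (F.ln_sq hB' hB L.symm hy') hu
    (by rw [commutatorElement_def, k', commutatorElement_def, i'])
  have n := F.Om_le_N hB L.vc.symm ((F.sq_iff hB' hy hy').2 (s.trans s'.symm))
  refine F.ln_N hB hB' L (mul_mem (inv_mem hx) hx') ?_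
  rw [← cj_eq_iff, ← cj_cj, ← e', show y' = y * (y⁻¹ * y') by group, ← cj_cj y, cj_eq_iff.2 n, e, cj_inv_cj]

/-- no triangles -/
theorem Fam.nt (hC : NoCm 𝓑) {P : Subgroup G} (hP : P ∈ 𝓑) (h : Vc P B) (h' : Vc P B') : Om P ≤ Om B ⊔ Om B' := by
  by_cases p1 : P = B
  · exact p1 ▸ le_sup_left
  by_cases p2 : P = B'
  · exact p2 ▸ le_sup_right
  have l1 : Ln B P := ⟨Ne.symm p1, h.symm, fun c => p1 (hC _ hB _ hP c).symm⟩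
  have l2 : Ln B' P := ⟨Ne.symm p2, h'.symm, fun c => p2 (hC _ hB' _ hP c).symm⟩
  obtain ⟨x, hx, x2⟩ := F.ex4 _ hB
  have hx' : x ∉ Om B := fun q => x2 (Om_sq q)
  obtain ⟨t, ht, t1⟩ := F.Om_ne hP
  obtain ⟨u, hu, e⟩ := F.ln_surj hB hB' L hx hx' (F.ln_cm hB hP l1 hx ht)
  have c : Commute x (u⁻¹ * t) := by
    simp only [commutatorElement_def, mul_left_inj] at e
    change x * (u⁻¹ * t) = u⁻¹ * t * x
    rw [show x * (u⁻¹ * t) = u⁻¹ * (u * x * u⁻¹) * t by group, e]; group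
  have ne : u⁻¹ * t ≠ 1 := fun q => p2 (F.ti _ hP _ hB' t ht.1 (inv_mul_eq_one.1 q ▸ hu.1) t1)
  obtain ⟨P', hP', m⟩ : ∃ P' ∈ 𝓑, u⁻¹ * t ∈ Om P' := by
    rcases F.ln_cover hN hB' hP l2 (mul_mem (mem_sup_left (inv_mem hu)) (mem_sup_right ht)) with q | ⟨z, -, q⟩
    exacts [⟨_, hB', q⟩, ⟨_, F.conj _ hP z, q⟩]
  obtain rfl := hC _ hB _ hP' (F.cm_of_mem hB hP' hx x2 (F.N_of_comm hP' m.1 ne c))
  exact F.ln_meet_le hN hB hB' L hP (by simpa using mul_mem (mem_sup_right hu : u ∈ Om B ⊔ Om B') (mem_sup_left m)) ht.1 t1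

end

/-- `t ∈ V₂` acts on `E₁` and `u ∈ V₁` acts on `E₂` as `x ∈ B` -/
structure Dt (B B₁ B₂ : Subgroup G) (x t u : G) : Prop where
  hx : x ∈ B
  ht : t ∈ Om B₂
  hu : u ∈ Om B₁
  ct : x⁻¹ * t ∈ C[Om B ⊔ Om B₁]
  cu : x⁻¹ * u ∈ C[Om B ⊔ Om B₂]

omit [Finite G] in
theorem Dt.symm {x t u : G} (d : Dt B B₁ B₂ x t u) : Dt B B₂ B₁ x u t := ⟨d.hx, d.hu, d.ht, d.cu, d.ct⟩

/-- `g` maps the inverting element of `x` to that of `x' ≡ g x g⁻¹` -/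
theorem Fam.cj_inverter (F : Fam 𝓑) (hB : B ∈ 𝓑) (hB' : B' ∈ 𝓑) (L : Ln B B') {g x x' u u' : G}
    (hE : g ∈ N[Om B ⊔ Om B']) (hu : u ∈ Om B') (hu' : u' ∈ Om B') (hx' : x' ∈ B) (n' : x' ∉ Om B)
    (i : u * x * u⁻¹ = x⁻¹) (i' : u' * x' * u'⁻¹ = x'⁻¹) (h : g * x * g⁻¹ * x'⁻¹ ∈ Om B) :
    ∃ v ∈ Om B, g * u * g⁻¹ = v * u' := by
  obtain ⟨v, hv, w, hw, e⟩ := L.vc.mem_sup.1 (nm hE (mem_sup_right hu))
  refine ⟨v, hv, ?_⟩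
  rw [e, F.ln_inj' hB hB' L hx' n' hw hu' ?_]
  have k : (g * u * g⁻¹) * (g * x * g⁻¹) * (g * u * g⁻¹)⁻¹ = (g * x * g⁻¹)⁻¹ := by
    rw [show (g * u * g⁻¹) * (g * x * g⁻¹) * (g * u * g⁻¹)⁻¹ = g * (u * x * u⁻¹) * g⁻¹ by group, i]; group
  rw [e, show g * x * g⁻¹ = g * x * g⁻¹ * x'⁻¹ * x' by group] at k
  generalize g * x * g⁻¹ * x'⁻¹ = z at k h
  have m : w * x' * w⁻¹ ∈ B := nm (F.Om_le_N hB L.vc.symm hw) hx'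
  rw [show v * w * (z * x') * (v * w)⁻¹ = v * (w * z) * w⁻¹ * (w * x' * w⁻¹) * v⁻¹ by group, ← (L.vc.comm h hw).eq,
    show v * (z * w) * w⁻¹ * (w * x' * w⁻¹) * v⁻¹ = v * (z * (w * x' * w⁻¹)) * v⁻¹ by group,
    (Om_comm hv (mul_mem h.1 m)).eq, mul_inv_cancel_right, (Om_comm h hx').eq, mul_inv_rev, Om_inv h, mul_right_inj] at k
  rw [commutatorElement_def, commutatorElement_def, k, i']

section
variable (F : Fam 𝓑) (hB : B ∈ 𝓑) (h1 : B₁ ∈ 𝓑) (h2 : B₂ ∈ 𝓑) (T : Tri B B₁ B₂)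
include F hB h1 h2 T

theorem Fam.tri_ex {x : G} (hx : x ∈ B) : ∃ t ∈ Om B₂, x⁻¹ * t ∈ C[Om B ⊔ Om B₁] := by
  obtain ⟨t, ht, y, hy, e, c⟩ := F.tri_aux hB h1 h2 T (F.ln_sq hB h1 T.l1 hx)
  exact ⟨t, ht, by
    simpa [mul_assoc] using mul_mem (F.ln_Ecomm hB h1 T.l1 (mem_sup_left ((F.sq_iff hB hx hy).2 e.symm))) c⟩

theorem Fam.dt_ex {x : G} (hx : x ∈ B) : ∃ t u, Dt B B₁ B₂ x t u :=
  let ⟨t, ht, c⟩ := F.tri_ex hB h1 h2 T hx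
  let ⟨u, hu, c'⟩ := F.tri_ex hB h2 h1 T.symm hx
  ⟨t, u, hx, ht, hu, c, c'⟩

variable {x t u x' t' u' : G}

theorem Fam.dt_inv (d : Dt B B₁ B₂ x t u) : t * x * t⁻¹ = x⁻¹ := by
  obtain ⟨l, hl, l2⟩ := F.ex4 _ h1
  have e := F.ln_cE hB h1 T.l1 d.ct (mem_sup_right hl)
  have m : x⁻¹ * t * (x⁻¹ * t) ∈ Om B := by
    rw [show x⁻¹ * t * (x⁻¹ * t) = x⁻¹ * ⁅t, x⁻¹⁆ * x * (x⁻¹ * x⁻¹) * (t * t) by rw [commutatorElement_def]; group,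
      Om_sq d.ht, mul_one]
    exact mul_mem (nm' (N_le_NOm _ (F.le_N hB d.hx)) (F.ln_cm hB h2 T.l2 (inv_mem d.hx) d.ht))
      (F.ln_sq hB h1 T.l1 (inv_mem d.hx))
  have := F.ln_inj h1 hB T.l1.symm hl (fun q => l2 (Om_sq q)) m (mul_inv_eq_iff_eq_mul.1 (by
    have hc := (cen d.ct e).eq
    have s := F.ln_Esq hB h1 T.l1 e
    generalize x⁻¹ * t = c at hc s ⊢
    rw [show l * (c * c) * l⁻¹ = ⁅l, c⁆ * (c * ⁅l, c⁆) * c by simp only [commutatorElement_def]; group, hc,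
      ← mul_assoc, s, one_mul]))
  rw [Om_inv d.ht, ← inv_inj, mul_inv_rev, mul_inv_rev, Om_inv d.ht, inv_inv, ← mul_left_cancel_iff (a := x⁻¹),
    inv_mul_cancel, ← this]; group

theorem Fam.dt_mul (d : Dt B B₁ B₂ x t u) (d' : Dt B B₁ B₂ x' t' u') : Dt B B₁ B₂ (x * x') (t * t') (u * u') :=
  ⟨mul_mem d.hx d'.hx, mul_mem d.ht d'.ht, mul_mem d.hu d'.hu,
    by simpa [mul_assoc] using mul_mem (nm' (N_le_NC (F.ln_NE hB h1 T.l1 (mem_sup_left d'.hx))) d.ct) d'.ct,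
    by simpa [mul_assoc] using mul_mem (nm' (N_le_NC (F.ln_NE hB h2 T.l2 (mem_sup_left d'.hx))) d.cu) d'.cu⟩

theorem Fam.dt_m (d : Dt B B₁ B₂ x t u) (d' : Dt B B₁ B₂ x' t' u') : ⁅u', x⁆ = ⁅t, x'⁆ := by
  rw [← cm_congr (cen d.ct (mem_sup_right d'.hu)), ← cm_congr (cen d'.cu (mem_sup_right d.ht)), ← commutatorElement_inv,
    Om_inv (T.symm.cm t d.ht u' d'.hu)]

theorem Fam.dt_sym (d : Dt B B₁ B₂ x t u) (d' : Dt B B₁ B₂ x' t' u') : ⁅u', x⁆ = ⁅u, x'⁆ := by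
  have i := fun {x t u} (d : Dt B B₁ B₂ x t u) =>
    (F.ln_inv_iff hB h1 T.l1 d.hx).1 (F.dt_inv hB h2 h1 T.symm d.symm)
  have k := i (F.dt_mul hB h1 h2 T d d')
  rw [F.ln_mul hB h1 T.l1 (mul_mem d.hx d'.hx) d.hu d'.hu, F.ln_mul' hB h1 T.l1 d.hx d'.hx d.hu,
    F.ln_mul' hB h1 T.l1 d.hx d'.hx d'.hu, i d, i d', F.sq_mul hB d.hx d'.hx, mul_assoc, mul_right_inj, ← mul_assoc,
    mul_eq_right] at k
  rw [← Om_inv (F.ln_cm hB h1 T.l1 d'.hx d.hu), eq_inv_of_mul_eq_one_right k]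

theorem Fam.dt_C (d : Dt B B₁ B₂ x t u) : t * u ∈ C[B] := cen_of fun y hy => by
  obtain ⟨t', u', d'⟩ := F.dt_ex hB h1 h2 T hy
  have e : ⁅t, y⁆ = ⁅u, y⁆ := by rw [← F.dt_m hB h1 h2 T d d', F.dt_sym hB h1 h2 T d d']
  have m := F.ln_cm hB h1 T.l1 hy d.hu
  refine mul_inv_eq_iff_eq_mul.1 ?_
  rw [show t * u * y * (t * u)⁻¹ = (t * ⁅u, y⁆) * t⁻¹ * ⁅t, y⁆ * y by simp only [commutatorElement_def]; group,
    ← (T.l2.vc.comm m d.ht).eq, mul_inv_cancel_right, e, Om_sq m, one_mul]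

theorem Fam.dt_c (d : Dt B B₁ B₂ x t u) : t * u * x⁻¹ ∈ C[B] ∧ t * u * x⁻¹ ∈ C[Om B₁] ∧ t * u * x⁻¹ ∈ C[Om B₂] := by
  have n1 := F.ln_NE hB h1 T.l1 (mem_sup_left d.hx)
  have n2 := F.ln_NE hB h2 T.l2 (mem_sup_left d.hx)
  refine ⟨mul_mem (F.dt_C hB h1 h2 T d) (inv_mem (F.comm B hB d.hx)), centralizer_le (le_sup_right (a := Om B)) ?_,
    centralizer_le (le_sup_right (a := Om B)) ?_⟩
  · simpa [mul_assoc] using mul_mem (nm (N_le_NC n1) d.ct) (F.ln_Ecomm hB h1 T.l1 (nm n1 (mem_sup_right d.hu)))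
  · simpa [mul_assoc] using mul_mem (F.ln_Ecomm hB h2 T.l2 (mem_sup_right d.ht)) (nm (N_le_NC n2) d.cu)

theorem Fam.dt_cmul (d : Dt B B₁ B₂ x t u) (d' : Dt B B₁ B₂ x' t' u') :
    t * u * x⁻¹ * (t' * u' * x'⁻¹) = ⁅u, t'⁆ * (t * t' * (u * u') * (x * x')⁻¹) := by
  rw [mul_assoc (t * u), ← (cen (F.dt_c hB h1 h2 T d').1 (inv_mem d.hx)).eq,
    show ⁅u, t'⁆ * (t * t' * (u * u') * (x * x')⁻¹) = (⁅u, t'⁆ * t) * t' * (u * u') * (x * x')⁻¹ by group,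
    (T.l2.vc.comm (T.cm u d.hu t' d'.ht) d.ht).eq, commutatorElement_def]; group

theorem Fam.dt_ne (d : Dt B B₁ B₂ x t u) (hx : x ∉ Om B) : u ≠ 1 := fun q =>
  hx (by simpa using inv_mem (F.ln_CE hB h2 T.l2 (inv_mem d.hx) (by simpa [q] using d.cu)))

theorem Fam.tri_dec {x : G} (hx : x ∈ B) : ∃ t ∈ Om B₂, ∃ u ∈ Om B₁, x⁻¹ * t ∈ C[Om B ⊔ Om B₁] ∧
    x⁻¹ * u ∈ C[Om B ⊔ Om B₂] ∧ t * x * t⁻¹ = x⁻¹ ∧ u * x * u⁻¹ = x⁻¹ ∧ t * u ∈ C[B] :=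
  let ⟨t, u, d⟩ := F.dt_ex hB h1 h2 T hx
  ⟨t, d.ht, u, d.hu, d.ct, d.cu, F.dt_inv hB h1 h2 T d, F.dt_inv hB h2 h1 T.symm d.symm, F.dt_C hB h1 h2 T d⟩

theorem Fam.dt_q (d : Dt B B₁ B₂ x t u) (d' : Dt B B₁ B₂ x' t' u') (n : x ∉ Om B) (n' : x' ∉ Om B) (n'' : x * x' ∉ Om B) :
    ⁅u', x⁆ = x * x * (x' * x') := by
  have hN := F.tri_nat hB h1 h2 T
  have key : ∀ {x t u}, Dt B B₁ B₂ x t u → x ∉ Om B → ∃ y ∈ B₁, y * y = u ∧ ∀ u ∈ Om B₁, ⁅⁅u, x⁆, y⁆ = u := fun d n => by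
    obtain ⟨y, hy, -, e, k⟩ := F.ln_hat hN hB h1 T.l1 d.hx n
    exact ⟨y, hy, F.ln_inj' hB h1 T.l1 d.hx n (F.ln_sq h1 hB T.l1.symm hy) d.hu
      (by rw [commutatorElement_def, k, commutatorElement_def, F.dt_inv hB h2 h1 T.symm d.symm]), e⟩
  have d'' := F.dt_mul hB h1 h2 T d d'
  obtain ⟨y, hy, s, e⟩ := key d n
  obtain ⟨y', hy', s', e'⟩ := key d' n'
  obtain ⟨z, hz, s'', e''⟩ := key d'' n''
  have m := F.ln_cm hB h1 T.l1 d.hx d'.hu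
  have zy : z⁻¹ * (y * y') ∈ Om B₁ := (F.sq_iff h1 hz (mul_mem hy hy')).2 (by rw [F.sq_mul h1 hy hy', s, s', s''])
  have k : ⁅⁅u', x⁆, z⁆ = u * u' := by
    rw [← cm_congr (T.l1.vc.comm m zy).symm, F.ln_mul' h1 hB T.l1.symm hy hy' m, e u' d'.hu, F.dt_sym hB h1 h2 T d d',
      e' u d.hu, (F.cm h1 d'.hu.1 d.hu.1).eq]
  have zn : z ∉ Om B₁ := fun q => F.dt_ne hB h1 h2 T d'' n'' (s'' ▸ Om_sq q)
  rw [F.ln_inj' h1 hB T.l1.symm hz zn m (F.ln_cm hB h1 T.l1 d''.hx d''.hu) (k.trans (e'' _ d''.hu).symm),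
    (F.ln_inv_iff hB h1 T.l1 d''.hx).1 (F.dt_inv hB h2 h1 T.symm d''.symm), F.sq_mul hB d.hx d'.hx]

theorem Fam.tri_card : Nat.card (Om B) = 4 := by
  have hN := F.tri_nat hB h1 h2 T
  obtain ⟨a, ha, b, hb, a1, b1, ab⟩ := F.four B hB
  have ne : ∀ {v w}, v ∈ Om B → v ≠ w → v * w ≠ 1 := fun hv h q => h (by rw [← Om_inv hv, inv_eq_of_mul_eq_one_right q])
  have : (Om B : Set G) = {1, a, b, a * b} := by
    refine Set.Subset.antisymm (fun w hw => ?_) (by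
      rintro _ (rfl | rfl | rfl | rfl); exacts [one_mem _, ha, hb, mul_mem ha hb])
    by_contra! h
    simp only [Set.mem_insert_iff, Set.mem_singleton_iff, not_or] at h
    obtain ⟨x, hx, rfl⟩ := hN B hB a ha
    obtain ⟨y, hy, rfl⟩ := hN B hB b hb
    obtain ⟨z, hz, rfl⟩ := hN B hB w hw
    obtain ⟨t, u, d⟩ := F.dt_ex hB h1 h2 T hx
    obtain ⟨t', u', d'⟩ := F.dt_ex hB h1 h2 T hy
    obtain ⟨t'', u'', d''⟩ := F.dt_ex hB h1 h2 T hz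
    have nx : x ∉ Om B := fun q => a1 (Om_sq q)
    have k := F.dt_q hB h1 h2 T d (F.dt_mul hB h1 h2 T d' d'') nx
      (fun q => ne hb (Ne.symm h.2.2.1) (F.sq_mul hB hy hz ▸ Om_sq q))
      (fun q => ne (mul_mem ha hb) (Ne.symm h.2.2.2) (by
        have := Om_sq q; rwa [F.sq_mul hB hx (mul_mem hy hz), F.sq_mul hB hy hz, ← mul_assoc] at this))
    rw [F.ln_mul hB h1 T.l1 hx d'.hu d''.hu, F.dt_q hB h1 h2 T d d' nx (fun q => b1 (Om_sq q))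
      (fun q => ne ha ab (F.sq_mul hB hx hy ▸ Om_sq q)), F.dt_q hB h1 h2 T d d'' nx (fun q => h.1 (Om_sq q))
      (fun q => ne ha (Ne.symm h.2.1) (F.sq_mul hB hx hz ▸ Om_sq q)), F.sq_mul hB hy hz, mul_assoc, mul_right_inj,
      mul_right_inj, mul_eq_right] at k
    exact a1 k
  change Set.ncard (Om B : Set G) = 4
  rw [this, Set.ncard_insert_of_notMem (by simp [a1.symm, b1.symm, (ne ha ab).symm]),
    Set.ncard_insert_of_notMem (by simp [ab, b1]), Set.ncard_pair (by simp [a1])]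

/-- given `x₀ ∉ V` there is `x ∉ V` with `x₀ x ∉ V` -/
theorem Fam.tri_three {x₀ : G} (h₀ : x₀ ∈ B) : ∃ x ∈ B, x ∉ Om B ∧ x₀ * x ∉ Om B := by
  obtain ⟨a, ha, b, hb, a1, b1, ab⟩ := F.four B hB
  obtain ⟨a, ha, a1, e⟩ : ∃ a ∈ Om B, a ≠ 1 ∧ a ≠ x₀ * x₀ := by
    by_cases q : a = x₀ * x₀
    exacts [⟨b, hb, b1, fun r => ab (q.trans r.symm)⟩, ⟨a, ha, a1, q⟩]
  obtain ⟨x, hx, rfl⟩ := F.tri_nat hB h1 h2 T B hB a ha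
  refine ⟨x, hx, fun q => a1 (Om_sq q), fun q => e ?_⟩
  have := Om_sq q
  rw [F.sq_mul hB h₀ hx] at this
  rw [← Om_inv ha, eq_inv_of_mul_eq_one_left this]

/-- the image of `u` under `h ∈ L₂ ⊓ N(B)` -/
theorem Fam.dt_conj (d : Dt B B₁ B₂ x t u) (d' : Dt B B₁ B₂ x' t' u') (n : x ∉ Om B) (n' : x' ∉ Om B) :
    ∃ h ∈ B ⊔ B₂, h ∈ N[B] ∧ ∃ v ∈ Om B, h * u * h⁻¹ = v * (t' * u' * x'⁻¹ * (t * u * x⁻¹)) * u' := by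
  obtain ⟨h, hh, hn, k⟩ := F.ln_trans hB h2 T.l2 d.hx n d'.hx n'
  obtain ⟨v, hv, e⟩ := F.cj_inverter hB h2 T.l2 (F.ln_NE hB h2 T.l2 hh) d.ht d'.ht d'.hx n' (F.dt_inv hB h1 h2 T d)
    (F.dt_inv hB h1 h2 T d') k
  obtain ⟨c1, c2, c3⟩ := F.dt_c hB h1 h2 T d
  obtain ⟨w, hw, e'⟩ : ∃ v ∈ Om B, h * (t * u * x⁻¹) * h⁻¹ = v * (t * u * x⁻¹) := by
    obtain ⟨v, hv, k⟩ := F.ln_S hB h2 T.l2 c3 c1
    refine ⟨(h * v * h⁻¹)⁻¹ * v, mul_mem (inv_mem (nm (N_le_NOm _ hn) hv)) hv, ?_⟩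
    rw [mul_assoc _ v, ← mul_inv_cancel_right (v * _) h, (cen k hh).eq]; group
  refine ⟨h, hh, hn, v⁻¹ * w * (h * x * h⁻¹ * x'⁻¹), mul_mem (mul_mem (inv_mem hv) hw) k, ?_⟩
  have e1 : h * u * h⁻¹ = (h * t * h⁻¹)⁻¹ * (h * (t * u * x⁻¹) * h⁻¹) * (h * x * h⁻¹ * x'⁻¹) * x' := by group
  rw [e1, e, e']
  generalize h * x * h⁻¹ * x'⁻¹ = z at k
  generalize t * u * x⁻¹ = c at c1 c2 c3
  have i' := F.dt_inv hB h2 h1 T.symm d'.symm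
  rw [show (v * t')⁻¹ * (w * c) * z * x' = t'⁻¹ * (v⁻¹ * w) * (c * z) * x' by group, (cen c1 k.1).eq,
    show t'⁻¹ * (v⁻¹ * w) * (z * c) * x' = t'⁻¹ * (v⁻¹ * w * z) * (c * x') by group,
    ← (T.l2.vc.comm (mul_mem (mul_mem (inv_mem hv) hw) k) (inv_mem d'.ht)).eq, Om_inv d'.ht,
    show v⁻¹ * w * z * (t' * u' * x'⁻¹ * c) * u' = v⁻¹ * w * z * t' * (u' * x'⁻¹ * (c * u')) by group, (cen c2 d'.hu).eq,
    (cen c1 d'.hx).eq, show u' * x'⁻¹ * (u' * c) = (u' * x' * u'⁻¹)⁻¹ * (u' * u') * c by group, Om_sq d'.hu,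
    i', mul_one, inv_inv]

theorem Fam.tri_pt : ∃ P ∈ 𝓑, ∃ x ∈ B, x ∉ Om B ∧ ∃ t ∈ Om B₂, ∃ v ∈ Om B, t * x * v ∈ Om P := by
  have hN := F.tri_nat hB h1 h2 T
  obtain ⟨x', hx', x2⟩ := F.ex4 B hB
  have n' : x' ∉ Om B := fun q => x2 (Om_sq q)
  obtain ⟨x, hx, n, n''⟩ := F.tri_three hB h1 h2 T hx'
  obtain ⟨t, u, d⟩ := F.dt_ex hB h1 h2 T hx
  obtain ⟨t', u', d'⟩ := F.dt_ex hB h1 h2 T hx'
  have d'' := F.dt_mul hB h1 h2 T d' d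
  obtain ⟨h, -, -, v, hv, e⟩ := F.dt_conj hB h1 h2 T d d' n n'
  rw [F.dt_cmul hB h1 h2 T d' d] at e
  have m := T.cm u' d'.hu t d.ht
  obtain ⟨c1, c2, -⟩ := F.dt_c hB h1 h2 T d''
  obtain ⟨w, hw, k⟩ := F.ln_S hB h1 T.l1 c2 c1
  have hu' := F.dt_ne hB h1 h2 T d' n'
  obtain ⟨l, hl, el⟩ := F.ln_trE hN hB h1 T.l1 (e := v * ⁅u', t⁆ * w⁻¹ * u')
    (mul_mem (mem_sup_left (mul_mem (mul_mem hv m) (inv_mem hw))) (mem_sup_right d'.hu))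
    (fun q => hu' (F.eq_one hB h1 T.l1.ne (by
      rw [eq_inv_of_mul_eq_one_right q]; exact inv_mem (mul_mem (mul_mem hv m) (inv_mem hw)).1) d'.hu.1))
    (mem_sup_right d''.hu) (F.dt_ne hB h1 h2 T d'' n'')
  have m2 := T.cm _ d''.hu _ d''.ht
  refine ⟨_, F.conj _ h1 (l * h), (x' * x)⁻¹, inv_mem d''.hx, fun q => n'' (by simpa using inv_mem q), _, d''.ht,
    w * ⁅u' * u, t' * t⁆, mul_mem hw m2, ?_⟩
  have : t' * t * (x' * x)⁻¹ * (w * ⁅u' * u, t' * t⁆) = l * h * u * (l * h)⁻¹ := by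
    rw [show l * h * u * (l * h)⁻¹ = l * (h * u * h⁻¹) * l⁻¹ by group, e]
    have s := Om_sq d''.hu
    have hx'' := d''.hx
    have ht'' := d''.ht
    have hu'' := d''.hu
    generalize u' * u = u'' at *
    generalize t' * t = t'' at *
    generalize x' * x = x'' at *
    rw [show l * (v * (⁅u', t⁆ * (t'' * u'' * x''⁻¹)) * u') * l⁻¹ =
        l * (v * ⁅u', t⁆ * w⁻¹ * (w * (t'' * u'' * x''⁻¹) * u')) * l⁻¹ by group, (cen k (mem_sup_right d'.hu.1)).eq,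
      show l * (v * ⁅u', t⁆ * w⁻¹ * (u' * (w * (t'' * u'' * x''⁻¹)))) * l⁻¹ =
        l * (v * ⁅u', t⁆ * w⁻¹ * u') * (w * (t'' * u'' * x''⁻¹) * l⁻¹) by group, (cen k (inv_mem hl)).eq, ← mul_assoc _ l⁻¹, el,
      ← mul_assoc u'', ← (T.l1.vc.comm hw hu'').eq, mul_assoc t'' x''⁻¹, ← (Om_comm (mul_mem hw m2) (inv_mem hx'')).eq,
      ← mul_assoc t'', ← (T.l2.vc.comm (mul_mem hw m2) ht'').eq, commutatorElement_def, Om_inv hu'']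
    group
  rw [this, Om_cj]; exact cj_mem _ d.hu

theorem Fam.tri_le (hC : NoCm 𝓑) : Om B₂ ≤ B ⊔ Om B₁ := fun t₀ ht₀ => by
  have hN := F.tri_nat hB h1 h2 T
  obtain ⟨x₀, hx₀, c₀⟩ := F.ln_T hB h1 T.l1 (T.l2.vc.symm ht₀) fun u hu => T.cm u hu t₀ ht₀
  obtain ⟨u₀, hu₀, c₀'⟩ := F.tri_ex hB h2 h1 T.symm hx₀
  have d₀ : Dt B B₁ B₂ x₀ t₀ u₀ := ⟨hx₀, ht₀, hu₀, c₀, c₀'⟩
  obtain ⟨x, hx, n, n'⟩ := F.tri_three hB h1 h2 T hx₀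
  obtain ⟨t, u, d⟩ := F.dt_ex hB h1 h2 T hx
  have d' := F.dt_mul hB h1 h2 T d₀ d
  obtain ⟨h, -, hn, v, hv, e⟩ := F.dt_conj hB h2 h1 T.symm d.symm d'.symm n n'
  obtain ⟨c1, c2, c3⟩ := F.dt_c hB h2 h1 T.symm d.symm
  obtain ⟨c1', c2', c3'⟩ := F.dt_c hB h2 h1 T.symm d'.symm
  have m : h * t * h⁻¹ ∈ Om (h •ᶜ B₂) := by rw [Om_cj]; exact cj_mem h d.ht
  have t1 := F.dt_ne hB h2 h1 T.symm d.symm n
  have le := F.nt hN hB h2 T.l2 hC (F.conj _ h2 h) (by simpa only [cj_eq_iff.2 hn] using T.l2.vc.symm.cj h)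
    (F.vc_of_comm (F.conj _ h2 h) h2 m.1 (by simpa [mul_inv_eq_iff_eq_mul] using t1) d.ht.1 t1 (by
      rw [e]; exact ((T.l2.vc.comm hv d.ht).mul_left (cen (mul_mem c2' c2) d.ht)).mul_left (F.cm h2 d'.ht.1 d.ht.1))) m
  have k : u₀ * u * (t₀ * t) * (x₀ * x)⁻¹ * (u * t * x⁻¹) ∈ Om B := F.ln_fix hB h2 T.l2 hx n (by
    have := mul_mem (mul_mem (inv_mem (mem_sup_left hv)) le) (inv_mem (mem_sup_right d'.ht))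
    rw [e] at this; simpa only [mul_assoc, inv_mul_cancel_left, mul_inv_cancel, mul_one] using this)
    (cen (mul_mem c1' c1) hx).symm
  have k1 := F.dt_cmul hB h2 h1 T.symm d₀.symm d.symm
  have k2 := F.dt_cmul hB h2 h1 T.symm d.symm d.symm
  rw [Om_sq d.hu, Om_sq d.ht] at k2
  have : t₀ = u₀⁻¹ * (⁅t₀, u⁆ * (u₀ * u * (t₀ * t) * (x₀ * x)⁻¹ * (u * t * x⁻¹)) * (⁅t, u⁆ * (1 * 1 * (x * x)⁻¹))⁻¹) * x₀ := by
    rw [← mul_assoc ⁅t₀, u⁆, ← k1, ← k2]; group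
  rw [this]
  exact mul_mem (mul_mem (mem_sup_right (inv_mem hu₀)) (mem_sup_left (mul_mem (mul_mem (T.symm.cm _ ht₀ u d.hu).1 k.1)
    (inv_mem (mul_mem (T.symm.cm _ d.ht u d.hu).1 (by simpa using mul_mem (inv_mem hx) (inv_mem hx))))))) (mem_sup_left hx₀)
end

end Cfsg.Lib.TIB
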