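import Cfsg.Agent.Lib.TIB.Ex
import Cfsg.Agent.Lib.Coprime.Basic

/-! S1779: no two distinct points commute.  Q = Qo B, I(B) = {B₁ ∈ 𝓑, B₁ ≠ B, Cm B B₁}.
For B₁ with Cm B B₁, B₁ ⊔ Q is a 2-group, so the Q-conjugates of B₁ commute pairwise (`cm_of_two`): `cm_Q`.

* `sq_mem_Q`: x ∈ B₁ with u = x² an involution.  For g ∈ Q, p = ⁅g,x⁆ ∈ Q commutes with x, so ⁅g,u⁆ = p² ∈ Φ(Q).  If u ∉ Q it
  inverts an odd f ≠ 1 of N(B) (`exists_odd`); u and f u f⁻¹ act trivially on Q/Φ(Q), so u·(f u f⁻¹) = f⁻² and f do, so f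
  centralizes Q (`CoprimeAct.le_centralizer_of_commutator_le_frattini`), f ∈ Q (`chr`), f = 1.
* `Om_le_Q`: a ∈ V₁ \ Q inverts an odd f ≠ 1 of N(B); a' = f a f⁻¹ ∈ B₂ = f•B₁, a a' = f⁻² does not have order ≤ 2, so
  ¬ Vc B₁ B₂.  V₀ = V₁ ⊓ Q ≠ 1.  For u ∈ V₀, d = (u a' u) a' ∈ Q commutes with u (a', u a' u commute by `cm_Q`), so
  d ∈ N(B₁) and a' u a' = u d ∈ N(B₁) ⊓ Q.  R₀ = V₀ ⊔ a'•V₀ ≤ N(B₁) ⊓ Q is normalized by a' and by a (⁅g,a⁆ ∈ V₀ for g ∈ N(B₁) ⊓ Q),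
  so by f (`odd_sq`): f u f⁻¹ ∈ B₂ ⊓ N(B₁), contradicting ¬ Vc (`vc_of_mem`).
* `trick`: x ∈ B₁ of order 4, v ≠ v' in A#: x x^{v'} = x^v x^{vv'} and x x^v = x^{v'} x^{vv'} (all commute) ⇒ (x^v)² = (x^{v'})²
  ⇒ v v' centralizes x² ⇒ v v' ∈ N(B₁) ⇒ v = v'.
* `vc_I`: B₁, B₂ ∈ I(B) ∪ {B} with ¬ Vc: A = V₂ ≤ Q; i = x (v x v⁻¹) ∈ Q (x² ∈ Q) commutes with v, so i ∈ N(B₂); for v' ∈ V₂,
  ⁅i,v'⁆ ∈ B₂ centralizes B₁ (`cm_Q`), so it is 1; `trick`.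
* `vc_ln` (O = B₁, B₄ ∈ I(O), Ln O B₂, ¬ Vc B₄ B₂).  (b) v ∈ V₂#: v•B₄ ≠ B₄ is in I(O), Vc by `vc_I`.  If Cm B₄ (v•B₄): for
  x ∈ B₄ \ V₄, i = x x^v ∈ C(O) commutes with v, so with V₂ (`ln_C0`); if Ln B₄ (v'•B₄) then i centralizes v'•B₄, so for
  a ≠ 1 in Om (v'•B₄), ⁅a,x⁆ ∈ B₄ and ⁅a,x^v⁆ ∈ v•B₄ are inverse to each other up to conjugation, so trivial, contradicting `ln_inj`;
  so all are Cm and `trick` applies.  Hence Ln B₄ (v•B₄) for all v.  (c) P from `centre'`: Om P centralizes O, so Cm O P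
  (`cm_of_mem`, or P = O, impossible as Ln P B₄), P ≠ B₂.  If Cm P B₂: for a ∈ V₄#, a v a = v w with w = ⁅.⁆ ∈ Om P#, so
  Vc B₂ (a•B₂); Ln is impossible (B₂ centralizes w, `ln_fix` gives w ∈ B₂ ⊓ P); so Cm for all a, x x^a ∈ C(P) commutes with a, so with
  V₄ (`ln_C0` for Ln P B₄); `trick`.  So Ln P B₂, and then Cm B₂ (a•B₂) is impossible (B₂ would centralize w): Ln B₂ (a•B₂).
  (d) `triOf` gives P with Tri P B₂ B₄, Cm O P; `tri_pt`: z = t x v ∈ Om P' centralizes O, z ≠ 1, so Cm O P' and Vc P' B₄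
  (`vc_I`), but x does not centralize V₄ while t, v do.
* `noCm`: B₁ ∈ I(B); every P with Vc B P has Vc B₁ P (`vc_I` or `vc_ln`), `ct` with Γ = Vc gives B = B₁. -/

set_option autoImplicit false

namespace Cfsg.Lib.TIB
open Subgroup Cfsg.Lib Cfsg.Lib.FT Cfsg.Lib.Bender
open scoped commutatorElement

variable {G : Type*} [Group G] [Finite G] {𝓑 : Set (Subgroup G)}

variable {B B₁ B₂ : Subgroup G}

omit [Finite G] in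
theorem Cm.le_N (c : Cm B B₁) : B₁ ≤ N[B] := c.symm.trans (centralizer_le_normalizer _)

omit [Finite G] in
theorem Cm.cjN (c : Cm B B₁) {g : G} (hg : g ∈ N[B]) : Cm B (g •ᶜ B₁) := by
  simpa only [cj_eq_iff.2 hg] using c.cj g

omit [Finite G] in
theorem two_odd_eq_one {P : Subgroup G} (hP : IsPGroup 2 P) {f : G} (hf : f ∈ P) (ho : Odd (orderOf f)) : f = 1 := by
  obtain ⟨k, hk⟩ := hP ⟨f, hf⟩
  exact orderOf_eq_one_iff.1 (Nat.Coprime.eq_one_of_dvd ((Nat.coprime_two_right.2 ho).pow_right k)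
    (orderOf_dvd_of_pow_eq_one (congrArg Subtype.val hk)))

theorem Fam.cm_Q (F : Fam 𝓑) (hB : B ∈ 𝓑) (h1 : B₁ ∈ 𝓑) (c : Cm B B₁) {g g' : G} (hg : g ∈ Qo B) (hg' : g' ∈ Qo B) :
    Cm (g •ᶜ B₁) (g' •ᶜ B₁) := by
  have le : ∀ g ∈ Qo B, g •ᶜ B₁ ≤ B₁ ⊔ Qo B := fun g hg x hx => by
    rw [show x = g * (g⁻¹ * x * g) * g⁻¹ by group]
    exact mul_mem (mul_mem (mem_sup_right hg) (mem_sup_left (mem_cj.1 hx))) (inv_mem (mem_sup_right hg))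
  exact F.cm_of_two (F.conj _ h1 g) (F.conj _ h1 g')
    ((F.two _ h1).to_sup_of_normal_right' (Qo_two B) (c.le_N.trans (N_le_NQ B))) (le g hg) (le g' hg')

theorem Fam.cm_Q1 (F : Fam 𝓑) (hB : B ∈ 𝓑) (h1 : B₁ ∈ 𝓑) (c : Cm B B₁) {g : G} (hg : g ∈ Qo B) :
    Cm B₁ (g •ᶜ B₁) := by simpa only [cj_one] using F.cm_Q hB h1 c (one_mem _) hg

theorem Fam.sq_mem_Q (F : Fam 𝓑) (hB : B ∈ 𝓑) (h1 : B₁ ∈ 𝓑) (c : Cm B B₁) {x : G} (hx : x ∈ B₁)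
    (h : x * x ∈ Om B₁) : x * x ∈ Qo B := by
  by_contra hQ
  obtain ⟨f, hf, f1, ho, hi⟩ := exists_odd (c.le_N h.1) (Om_sq h) hQ
  have s : ∀ R ∈ 𝓑, Cm B R → ∀ y ∈ R, ∀ g ∈ Qo B, y * y ∈ exSt g (powerClosure 2 1 (Qo B)) := fun R hR cR y hy g hg => by
    have yN := N_le_NQ B (cR.le_N hy)
    refine ⟨pg_le_normalizer_powerClosure le_rfl (mul_mem yN yN), ?_⟩
    have := pg_pow_mem_powerClosure (p := 2) (n := 1) (mul_mem (nm yN hg) (inv_mem hg))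
    rw [pow_one, sq, show y * g * y⁻¹ * g⁻¹ = y * (g * y * g⁻¹)⁻¹ by group,
      ((F.cm_Q1 hB hR cR hg).comm hy (cj_mem g hy)).inv_right.symm.mul_mul_mul_comm] at this
    convert this using 1
    simp [commutatorElement_def, mul_assoc]
  have hc : zpowers f ≤ C[Qo B] := bg1_8 (p := 2) (Qo_two B) (by
    rw [Nat.card_zpowers]; exact fun e => Nat.not_even_iff_odd.2 ho (even_iff_two_dvd.2 e))
    (zpowers_le.2 (N_le_NQ B hf)) (commutator_le.2 fun g hg k hk => mem_sup_right (ex_comm_inv (zpowers_le.2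
      (ex_odd_mem (Om_sq h) ho hi (s _ h1 c x hx g hg)
        (conj_mul (b := f) ▸ s _ (F.conj _ h1 f) (c.cjN hf) _ (cj_mem f hx) g hg)) hk).2))
  exact f1 (two_odd_eq_one (Qo_two B) (F.chr B hB f hf (hc (mem_zpowers f))) ho)

theorem Fam.Om_le_Q (F : Fam 𝓑) (hB : B ∈ 𝓑) (h1 : B₁ ∈ 𝓑) (c : Cm B B₁) : Om B₁ ≤ Qo B := fun a ha => by
  by_contra hQ
  obtain ⟨f, hf, f1, ho, hi⟩ := exists_odd (c.le_N ha.1) (Om_sq ha) hQ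
  have h2 := F.conj _ h1 f
  have c2 := c.cjN hf
  have ha' := ex_cj_Om (g := f) ha
  have nv : ¬ Vc B₁ (f •ᶜ B₁) := fun vc => f1 (two_odd_eq_one ((F.Om_two h1).to_sup_of_normal_right' (F.Om_two h2)
    (vc.trans (centralizer_le_normalizer _))) (ex_odd_mem (Om_sq ha) ho hi (mem_sup_left ha) (mem_sup_right ha')) ho)
  have aQ := N_le_NQ B (c.le_N ha.1)
  have aQ' := N_le_NQ B (c2.le_N ha'.1)
  have hR : Om B₁ ⊓ Qo B ⊔ (f * a * f⁻¹) •ᶜ (Om B₁ ⊓ Qo B) ≤ N[B₁] ⊓ Qo B := by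
    generalize f * a * f⁻¹ = b at *
    refine sup_le (inf_le_inf_right _ ((Om_le _).trans (F.le_N h1))) ?_
    rintro _ ⟨u, hu, rfl⟩
    refine ⟨?_, nm aQ' hu.2⟩
    by_cases u1 : u = 1
    · subst u1; rw [map_one]; exact one_mem _
    have cm := ((F.cm_Q1 hB h2 c2 hu.2).comm ha'.1 (cj_mem u ha'.1)).eq
    have : u * b * u⁻¹ * b ∈ N[B₁] := F.N_of_comm h1 hu.1.1 u1 (by
      change u * b * u⁻¹ * b * u = u * (u * b * u⁻¹ * b)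
      rw [← mul_assoc u, ← cm, Om_inv hu.1]
      simp only [mul_assoc, Om_sq hu.1, mul_one]
      rw [← mul_assoc u u, Om_sq hu.1, one_mul])
    have := mul_mem (inv_mem (F.le_N h1 hu.1.1)) this
    change b * u * b⁻¹ ∈ N[B₁]
    rw [Om_inv ha']
    rwa [show u⁻¹ * (u * b * u⁻¹ * b) = b * u⁻¹ * b by group, Om_inv hu.1] at this
  have fN : f ∈ N[Om B₁ ⊓ Qo B ⊔ (f * a * f⁻¹) •ᶜ (Om B₁ ⊓ Qo B)] := by
    refine ex_odd_mem (Om_sq ha) ho hi (ex_mem_N fun g hg => ?_) (cj_eq_iff.1 ?_)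
    · rw [show a * g * a⁻¹ = a * (g * a * g⁻¹)⁻¹ * g by group]
      refine mul_mem (mem_sup_left ⟨(Om B₁).mul_mem ha ((Om B₁).inv_mem (nm (N_le_NOm _ (hR hg).1) ha)), ?_⟩) hg
      rw [show a * (g * a * g⁻¹)⁻¹ = a * g * a⁻¹ * g⁻¹ by group]
      exact (Qo B).mul_mem (nm aQ (hR hg).2) ((Qo B).inv_mem (hR hg).2)
    · rw [cj_sup, cj_cj, Om_sq ha', cj_one, sup_comm]
  obtain ⟨x, hx, x1, x2⟩ := F.ex4' h1
  exact nv (F.vc_of_mem h2 h1 (cj_mem f x2.1) (by simpa [mul_inv_eq_iff_eq_mul] using x1)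
    (hR (nm fN (mem_sup_left ⟨x2, F.sq_mem_Q hB h1 c hx x2⟩))).1).symm

theorem Fam.trick (F : Fam 𝓑) (h1 : B₁ ∈ 𝓑) (h2 : B₂ ∈ 𝓑) (nv : ¬ Vc B₁ B₂)
    (hc : ∀ v ∈ Om B₂, Cm B₁ (v •ᶜ B₁)) (hi : ∀ x ∈ B₁, x * x ∈ Om B₁ → ∀ v ∈ Om B₂, v ≠ 1 → x * (v * x * v⁻¹) ∈ C[Om B₂]) :
    False := by
  obtain ⟨x, hx, x1, x2⟩ := F.ex4' h1
  obtain ⟨v, hv, w, hw, v1, w1, vw⟩ := F.four _ h2
  have e1 : x * (w * x * w⁻¹) = v * x * v⁻¹ * (v * w * x * (v * w)⁻¹) := by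
    rw [← mul_inv_eq_iff_eq_mul.2 (cen (hi x hx x2 w hw w1) hv).symm.eq]; group
  have e2 : x * (v * x * v⁻¹) = w * x * w⁻¹ * (v * w * x * (v * w)⁻¹) := by
    rw [← mul_inv_eq_iff_eq_mul.2 (cen (hi x hx x2 v hv v1) hw).symm.eq, (Om_comm hv hw.1).eq]; group
  have c1 := ((hc v hv).comm hx (cj_mem v hx)).eq
  have c2 := ((hc w hw).comm hx (cj_mem w hx)).eq
  have c3 : Commute (v * x * v⁻¹) (w * x * w⁻¹) := by
    have := ((hc _ (mul_mem (inv_mem hv) hw)).cj v).comm (cj_mem v hx) (cj_mem v (cj_mem _ hx))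
    rwa [show v * (v⁻¹ * w * x * (v⁻¹ * w)⁻¹) * v⁻¹ = w * x * w⁻¹ by group] at this
  have e3 : w * x * w⁻¹ * (w * x * w⁻¹) = v * x * v⁻¹ * (v * x * v⁻¹) := by
    generalize v * w * x * (v * w)⁻¹ = r at e1 e2
    generalize v * x * v⁻¹ = p at *
    generalize w * x * w⁻¹ = q at *
    apply mul_left_cancel (a := x)
    rw [← mul_assoc, c2, mul_assoc, e1, ← mul_assoc, ← c3.eq, mul_assoc, ← e2, ← mul_assoc, ← c1, mul_assoc]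
  rw [conj_mul, conj_mul] at e3
  refine nv (F.vc_of_comm h1 h2 x2.1 x1 (mul_mem (inv_mem hv) hw).1 (fun e => vw (inv_mul_eq_one.1 e)) ?_)
  change x * x * (v⁻¹ * w) = v⁻¹ * w * (x * x)
  rw [show v⁻¹ * w * (x * x) = v⁻¹ * (w * (x * x) * w⁻¹) * w by group, e3]; group

omit [Finite G] in
theorem two_comm {x v : G} (vv : v * v = 1) (c : Commute x (v * x * v⁻¹)) : Commute (x * (v * x * v⁻¹)) v := by
  change x * (v * x * v⁻¹) * v = v * (x * (v * x * v⁻¹))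
  nth_rewrite 1 [c.eq]
  rw [inv_eq_of_mul_eq_one_right vv]
  simp only [mul_assoc, vv, mul_one]

theorem Fam.vc_I (F : Fam 𝓑) (hB : B ∈ 𝓑) (h1 : B₁ ∈ 𝓑) (h2 : B₂ ∈ 𝓑) (c1 : Cm B B₁) (c2 : Cm B B₂) : Vc B₁ B₂ := by
  by_contra nv
  have le := F.Om_le_Q hB h2 c2
  have hc : ∀ v ∈ Om B₂, Cm B₁ (v •ᶜ B₁) := fun v hv => F.cm_Q1 hB h1 c1 (le hv)
  refine F.trick h1 h2 nv hc fun x hx _ v hv v1 => cen_of fun w hw => ?_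
  have iN := F.N_of_comm h2 hv.1 v1 (two_comm (Om_sq hv) ((hc v hv).comm hx (cj_mem v hx)))
  have iC : ∀ u ∈ Om B₂, u * x * u⁻¹ ∈ C[B₁] := fun u hu => (hc u hu).symm (cj_mem u hx)
  by_contra ne
  refine nv (F.vc_of_mem h2 h1 (mul_mem (nm iN hw.1) (inv_mem hw.1))
    (fun e => ne (commutatorElement_eq_one_iff_commute.1 e)) (centralizer_le_normalizer _ ?_)).symm
  rw [show x * (v * x * v⁻¹) * w * (x * (v * x * v⁻¹))⁻¹ * w⁻¹ =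
    x * (v * x * v⁻¹) * (w * v * x * (w * v)⁻¹)⁻¹ * (w * x * w⁻¹)⁻¹ by group]
  exact mul_mem (mul_mem (mul_mem (F.comm _ h1 hx) (iC v hv)) (inv_mem (iC _ (mul_mem hw hv)))) (inv_mem (iC w hw))

theorem Fam.cm_of_cen (F : Fam 𝓑) (hB : B ∈ 𝓑) (h1 : B₁ ∈ 𝓑) {p : G} (hp : p ∈ B₁) (p1 : p ≠ 1) (h : p ∈ C[B]) :
    Cm B B₁ :=
  let ⟨_, hx, x1⟩ := F.ex4 B hB
  F.cm_of_mem hB h1 hx x1 (F.N_of_comm h1 hp p1 (cen h hx).symm)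

theorem Fam.ne_cj (F : Fam 𝓑) (h1 : B₁ ∈ 𝓑) (h2 : B₂ ∈ 𝓑) (nv : ¬ Vc B₁ B₂) {v : G} (hv : v ∈ Om B₂) (v1 : v ≠ 1) :
    B₁ ≠ v •ᶜ B₁ := fun e => nv (F.vc_of_mem h2 h1 hv.1 v1 (cj_eq_iff.1 e.symm)).symm

theorem Fam.vc_ln (F : Fam 𝓑) (hB : B ∈ 𝓑) (h1 : B₁ ∈ 𝓑) (h2 : B₂ ∈ 𝓑) (c1 : Cm B B₁) (L : Ln B B₂) : Vc B₁ B₂ := by
  by_contra nv
  have nv' : ¬ Vc B₂ B₁ := fun c => nv c.symm
  have cv : ∀ v ∈ Om B₂, Cm B (v •ᶜ B₁) := fun v hv => c1.cjN (F.Om_le_N hB L.vc.symm hv)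
  have iC : ∀ x ∈ B₁, ∀ v ∈ Om B₂, v ≠ 1 → Cm B₁ (v •ᶜ B₁) → x * (v * x * v⁻¹) ∈ C[Om B₂] := fun x hx v hv v1 c =>
    F.ln_C0 hB h2 L (mul_mem (c1.symm hx) ((cv v hv).symm (cj_mem v hx))) hv v1
      (two_comm (Om_sq hv) (c.comm hx (cj_mem v hx)))
  have L1 : ∀ v ∈ Om B₂, v ≠ 1 → Ln B₁ (v •ᶜ B₁) := fun v hv v1 => by
    refine ⟨F.ne_cj h1 h2 nv hv v1, F.vc_I hB h1 (F.conj _ h1 v) c1 (cv v hv), fun c => ?_⟩
    have hc : ∀ w ∈ Om B₂, Cm B₁ (w •ᶜ B₁) := fun w hw => by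
      by_contra nc
      have hw1 := F.conj _ h1 w
      have LW : Ln B₁ (w •ᶜ B₁) := ⟨fun e => nc (e ▸ F.comm _ h1), F.vc_I hB h1 hw1 c1 (cv w hw), nc⟩
      obtain ⟨x, hx, x1⟩ := F.exV h1
      obtain ⟨a, ha, a1⟩ := F.Om_ne hw1
      have ci : Commute (x * (v * x * v⁻¹)) a := cen (B := w •ᶜ B₁) (mem_cen_cj.2 (by
        rw [mul_assoc w⁻¹, (cen (iC x hx v hv v1 c) hw).eq, inv_mul_cancel_left]
        exact mul_mem (F.comm _ h1 hx) (c.symm (cj_mem v hx)))) ha.1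
      have aN := F.Om_le_N (F.conj _ h1 v) (F.vc_I hB hw1 (F.conj _ h1 v) (cv w hw) (cv v hv)) ha
      have e : x⁻¹ * (a * x * a⁻¹) = v * x * v⁻¹ * (a * (v * x * v⁻¹) * a⁻¹)⁻¹ := by
        rw [eq_mul_inv_iff_mul_eq, mul_assoc, conj_mul, ← ci.eq]; group
      have := F.eq_one h1 (F.conj _ h1 v) (F.ne_cj h1 h2 nv hv v1)
        (mul_mem (inv_mem hx) (nm (F.Om_le_N h1 LW.vc.symm ha) hx))
        (e ▸ mul_mem (cj_mem v hx) (inv_mem (nm aN (cj_mem v hx))))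
      exact a1 (F.ln_inj h1 hw1 LW hx x1 ha (eq_mul_inv_iff_mul_eq.1 (inv_mul_eq_one.1 this)))
    exact F.trick h1 h2 nv hc fun x hx _ w hw w1 => iC x hx w hw w1 (hc w hw)
  have cO : ∀ P ∈ 𝓑, ∀ y ∈ Om B₂, Om P ≤ Om B₁ ⊔ Om (y •ᶜ B₁) → Cm B P := fun P hP y hy le =>
    let ⟨_, hp, p1⟩ := F.Om_ne hP
    F.cm_of_cen hB hP hp.1 p1 (sup_le ((Om_le _).trans c1.symm) ((Om_le _).trans (cv y hy).symm) (le hp))
  obtain ⟨y, hy, y1⟩ := F.Om_ne h2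
  obtain ⟨P, hP, LP, vP, -, hw⟩ := F.centre' h1 h2 nv hy y1 (L1 y hy y1)
  have ne : B₂ ≠ P := fun e => nv' (e ▸ LP.vc)
  have w1 : ∀ a ∈ Om B₁, a ≠ 1 → ⁅a, y⁆ ≠ 1 := fun a ha a1 e =>
    nv (F.vc_of_comm h1 h2 ha.1 a1 hy.1 y1 (commutatorElement_eq_one_iff_commute.1 e))
  have va : ∀ a ∈ Om B₁, Vc B₂ (a •ᶜ B₂) := fun a ha =>
    F.vc_of_comm h2 (F.conj _ h2 a) hy.1 y1 (cj_mem a hy.1) (by simpa [mul_inv_eq_iff_eq_mul] using y1) (by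
      rw [show a * y * a⁻¹ = ⁅a, y⁆ * y by group]
      exact (vP.comm (hw a ha) hy).symm.mul_right (Commute.refl y))
  obtain ⟨x, hx, x1⟩ := F.exV h2
  have nc : ¬ Cm B₂ P := fun c => by
    have hc : ∀ a ∈ Om B₁, Cm B₂ (a •ᶜ B₂) := fun a ha => by
      by_contra nc
      have a1 : a ≠ 1 := fun e => nc (by rw [e, cj_one]; exact F.comm _ h2)
      exact w1 a ha a1 (F.eq_one h2 hP ne (F.ln_fix h2 (F.conj _ h2 a) ⟨F.ne_cj h2 h1 nv' ha a1, va a ha, nc⟩ hx x1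
        (mul_mem (mem_sup_right (ex_cj_Om hy)) (mem_sup_left (inv_mem hy))) (c.comm hx (hw a ha).1)).1 (hw a ha).1)
    exact F.trick h2 h1 nv' hc fun x hx _ a ha a1 => F.ln_C0 hP h1 LP
      (mul_mem (c hx) (ex_N_C (F.Om_le_N hP LP.vc.symm ha) (c hx))) ha a1
      (two_comm (Om_sq ha) ((hc a ha).comm hx (cj_mem a hx)))
  obtain ⟨R, hR, T, le⟩ := F.triOf h1 h2 nv L1 fun a ha a1 => ⟨F.ne_cj h2 h1 nv' ha a1, va a ha, fun c =>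
    w1 a ha a1 (F.ln_inj h2 hP ⟨ne, vP.symm, nc⟩ hx x1 (hw a ha)
      ((c.comm hx (cj_mem a hy.1)).mul_right (F.cm h2 hx hy.1).inv_right))⟩
  have cR := cO R hR y hy (le y hy y1)
  obtain ⟨P', hP', r, hr, r1, t, ht, v, hv, hz⟩ := F.tri_pt hR h2 h1 T.symm
  have z1 : t * r * v ≠ 1 := fun e => by
    rw [mul_assoc, mul_eq_one_iff_inv_eq] at e
    have := F.eq_one hR h1 T.l1.ne (mul_mem hr hv.1) (e ▸ inv_mem ht.1)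
    exact r1 (eq_inv_of_mul_eq_one_left this ▸ inv_mem hv)
  have vc := F.vc_I hB hP' h1 (F.cm_of_cen hB hP' hz.1 z1
    (mul_mem (mul_mem (c1.symm ht.1) (cR.symm hr)) (cR.symm hv.1))) c1
  obtain ⟨u, hu, u1⟩ := F.Om_ne h1
  refine u1 (F.ln_inj hR h1 T.l1 hr r1 hu ?_)
  rw [show r = t⁻¹ * (t * r * v) * v⁻¹ by group]
  exact ((Om_comm ht hu.1).inv_left.mul_left (vc.comm hz hu)).mul_left (T.l1.vc.comm hv hu).inv_left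

theorem Fam.noCm (F : Fam 𝓑) : NoCm 𝓑 := fun B hB B₁ h1 c =>
  F.ct Vc (fun B _ => Vc.refl B) (fun _ _ g h => h.cj g) (fun _ _ _ _ h => h) hB h1 fun P hP vc => by
    by_cases cP : Cm B P
    · exact F.vc_I hB h1 hP c cP
    · exact F.vc_ln hB h1 hP c ⟨fun e => cP (e ▸ F.comm B hB), vc, cP⟩

end Cfsg.Lib.TIB
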